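import Mathlib
import Cfsg.Agent.Lib.EqZJ.Pair
import Cfsg.Agent.Lib.Coprime.Sylow

/-! Unipotent radicals of root subgroups of a quadratic pair: block calculus. -/

set_option autoImplicit false

namespace CfsgLib.EqK

open Cfsg CfsgLib.RootSub CfsgLib.EqZJ Polynomial Subgroup

section Gen

variable {k : Type*} [Field k] {M : Type*} [AddCommGroup M] [Module k M] [FiniteDimensional k M]

local notation "GLM" => LinearMap.GeneralLinearGroup k M
local notation "EM" => M →ₗ[k] M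

variable {G K H : Subgroup (LinearMap.GeneralLinearGroup k M)} {a b b' d j x y z η : M →ₗ[k] M}
  {g : LinearMap.GeneralLinearGroup k M}

omit [FiniteDimensional k M] in
theorem unip_zpowers (h : IsNilpotent ((g : EM) - 1)) : IsUnipotentOn (zpowers g) := by
  obtain ⟨n, hn⟩ := h
  have hF : Antitone fun j : ℕ => LinearMap.range (((g : EM) - 1) ^ j) :=
    antitone_nat_of_succ_le fun j => by rw [pow_succ]; exact LinearMap.range_comp_le_range _ _
  refine unip_iff_flag.2 ⟨_, hF, n, by simp [Module.End.one_eq_id], by simp [hn], zpowers_le.2 ?_⟩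
  rintro j _ ⟨v, rfl⟩
  refine ⟨⟨v, by rw [pow_succ']; rfl⟩, ⟨-((g⁻¹ : GLM) : EM) v, ?_⟩⟩
  have h1 : Commute ((g⁻¹ : GLM) : EM) (((g : EM) - 1) ^ j) :=
    (((Commute.refl (g : EM)).units_inv_left).sub_right (Commute.one_right _)).pow_right j
  rw [map_neg, ← Module.End.mul_apply, ← Module.End.mul_apply, h1.eq, pow_succ, mul_assoc, sub_mul,
    Units.mul_inv, one_mul, mul_sub, mul_one]
  simp

theorem unip_of_pgroup {p : ℕ} [Fact p.Prime] [CharP k p] [Finite H] (h : IsPGroup p H) : IsUnipotentOn H := by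
  have : Finite {V : Subgroup GLM | V ≤ H ∧ IsUnipotentOn V} :=
    Finite.of_injective (fun V => V.1.subgroupOf H) fun V W e => Subtype.ext (by
      rw [← map_subtype_subgroupOf V.2.1, ← map_subtype_subgroupOf W.2.1]; exact congrArg _ e)
  obtain ⟨V, hV, hm⟩ := (Set.toFinite {V : Subgroup GLM | V ≤ H ∧ IsUnipotentOn V}).exists_maximal
    ⟨⊥, bot_le, unip_bot⟩
  by_contra hn
  obtain ⟨g, ⟨h1, h2⟩, h3⟩ := SetLike.exists_of_lt (Coprime.lt_inf_normalizer_of_isNilpotent h.isNilpotent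
    (lt_of_le_of_ne hV.1 fun e => hn (e ▸ hV.2)))
  obtain ⟨n, hn⟩ := h ⟨g, h1⟩
  have h4 : IsNilpotent ((g : EM) - 1) := by
    rcases subsingleton_or_nontrivial EM with h | h
    · exact ⟨0, Subsingleton.elim _ _⟩
    have : CharP EM p := charP_of_injective_algebraMap (algebraMap k EM).injective p
    exact ⟨p ^ n, by
      rw [sub_pow_char_pow_of_commute _ _ (Commute.one_right _), ← Units.val_pow_eq_pow_val,
        show g ^ p ^ n = 1 from congrArg Subtype.val hn]; simp⟩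
  exact h3 (hm ⟨sup_le hV.1 (zpowers_le.2 h1), unip_sup_of_norm hV.2 (unip_zpowers h4) fun x hx =>
    conjBy_eq_self_iff.2 (zpowers_le.2 h2 hx)⟩ le_sup_left (mem_sup_right (mem_zpowers g)))

omit [FiniteDimensional k M] in
theorem exists_nilAlg (h : IsUnipotentOn H) : ∃ 𝒜 : NonUnitalSubalgebra k EM,
    (∀ g ∈ H, (g : EM) - 1 ∈ 𝒜) ∧ ∀ y ∈ 𝒜, IsNilpotent y := by
  obtain ⟨F, hF, n, h0, hn, h⟩ := unip_iff_flag.1 h
  refine ⟨⟨⟨⟨⟨{y | ∀ j, ∀ v ∈ F j, y v ∈ F (j + 1)}, fun h1 h2 j v hv => add_mem (h1 j v hv) (h2 j v hv)⟩,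
    fun j v _ => zero_mem _⟩, fun h1 h2 j v hv => hF (Nat.le_succ _) (h1 _ _ (h2 j v hv))⟩,
    fun c y h1 j v hv => Submodule.smul_mem _ c (h1 j v hv)⟩, fun g hg j v hv => (h hg j v hv).1,
    fun y hy => ⟨n, LinearMap.ext fun v => ?_⟩⟩
  have key : ∀ j, (y ^ j) v ∈ F j := fun j => by
    induction j with
    | zero => exact h0 ▸ trivial
    | succ j ih => rw [pow_succ']; exact hy j _ ih
  simpa [hn] using key n

theorem nil_swap {R : Type*} [Ring R] {u v : R} (h : IsNilpotent (u * v)) : IsNilpotent (v * u) := by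
  obtain ⟨n, hn⟩ := h
  exact ⟨n + 1, by rw [pow_succ, ← mul_assoc, mul_pow_mul, hn, mul_zero, zero_mul]⟩

theorem eq_zero_of_nil {R : Type*} [Ring R] {u v e : R} (h : IsNilpotent v) (h1 : u * v = e) (h2 : e * v = v) :
    e = 0 := by
  obtain ⟨n, hn⟩ := h
  have key : ∀ m, u ^ (m + 1) * v ^ (m + 1) = e := fun m => by
    induction m with
    | zero => simpa using h1
    | succ m ih => rw [pow_succ u, pow_succ' v, mul_assoc, ← mul_assoc u, h1, pow_succ' v, ← mul_assoc e, h2,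
        ← pow_succ' v, ih]
  rw [← key n, pow_succ v, hn, zero_mul, mul_zero]

theorem dyd (h2 : (2 : k) ≠ 0) (h3 : Nat.card k ≠ 3) (hd : Mn G d) (hy : QF G y) : d * y * d ∈ eS G d := by
  by_cases h0 : d * y * d = 0
  · rw [h0]; exact zero_mem _
  obtain ⟨m, -, -, -, h⟩ := hd.main h2 h3 le_rfl hd.toQF hy h0
  refine mem_eS hd.sq ⟨by rw [mul_assoc, ← mul_assoc d, ← mul_assoc d, hd.sq]; simp, fun t => ?_⟩
    (LinearMap.ker_le_ker_comp _ _) (LinearMap.range_comp_le_range (y * d) d)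
  have := h (C t * X)
  rwa [map_mul, aeval_C, aeval_X, mul_assoc, gam_mul hd.sq, ← Algebra.smul_def] at this

theorem nilp_of_nil (h2 : (2 : k) ≠ 0) (hd : Mn G d) (hy : QF G y) (h : IsNilpotent (d * y)) : d * y * d = 0 := by
  obtain ⟨n, hn⟩ := h
  have key : ∀ m, (d * y + y * d) ^ m * d = (d * y) ^ m * d := fun m => by
    induction m with
    | zero => simp
    | succ m ih => rw [pow_succ, mul_assoc, gam_mul hd.sq, ← mul_assoc, ← mul_assoc, ih, pow_succ, mul_assoc _ d]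
  exact hd.nilp h2 hy (n := n) (by rw [key, hn, zero_mul])

omit [FiniteDimensional k M] in
theorem cj_mem_of_norm (hg : conjBy (EG G a) g = EG G b) (hj : j ∈ eS G a) : cj g j ∈ eS G b := by
  have := mem_EG.1 (hg ▸ conj_mem_conjBy (qu_mem_EG hj) g)
  rwa [cj_coe, qu_val, add_sub_cancel_left] at this

theorem comm_of_lr (h2 : (2 : k) ≠ 0) (ha : Mn G a) {l r : EM} (hl : l * l = 0) (hr : r * r = 0) (hj : j ∈ eS G a)
    (h1 : (1 + l) * j * (1 - r) ∈ eS G a) (h1' : (1 - l) * j * (1 + r) ∈ eS G a) : l * j = j * r := by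
  have h3 : l * j * r ∈ eS G a := by
    have := (eS G a).smul_mem (2 : k)⁻¹ (sub_mem (add_mem hj hj) (add_mem h1 h1'))
    rwa [show j + j - ((1 + l) * j * (1 - r) + (1 - l) * j * (1 + r)) = (2 : k) • (l * j * r) by
      rw [two_smul]; noncomm_ring, inv_smul_smul₀ h2] at this
  have h4 : l * j * r = 0 := by_contra fun h0 => h0 (by
    rw [eS_mul_left (x := l) (ha.eS_eq h3 h0 ▸ hj) (by rw [← mul_assoc, ← mul_assoc, hl, zero_mul, zero_mul]),
      zero_mul])
  have h5 : l * j - j * r ∈ eS G a := by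
    have := sub_mem h1 hj
    rwa [show (1 + l) * j * (1 - r) - j = l * j - j * r - l * j * r by noncomm_ring, h4, sub_zero] at this
  refine sub_eq_zero.1 (by_contra fun h0 => h0 ?_)
  rw [eS_mul_left (ha.eS_eq h5 h0 ▸ hj) (by rw [mul_sub, ← mul_assoc, ← mul_assoc, hl, h4, zero_mul, sub_zero]),
    eS_mul_right (ha.eS_eq h5 h0 ▸ hj) (by rw [sub_mul, mul_assoc j, hr, h4, mul_zero, sub_zero]), sub_zero]

theorem comm_of_norm (h2 : (2 : k) ≠ 0) (ha : Mn G a) (hη : η * η = 0)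
    (hg : conjBy (EG G a) (qu η hη) = EG G a) (hj : j ∈ eS G a) : η * j = j * η :=
  comm_of_lr h2 ha hη hη hj (cj_mem_of_norm hg hj) (cj_mem_of_norm (conjBy_inv_of_eq hg) hj)

/-- The unipotent radical attached to `a`. -/
def UU (a : EM) : Subgroup GLM where
  carrier := {g | a * ((g : EM) - 1) = 0 ∧ ((g : EM) - 1) * a = 0 ∧
    ∀ y z : EM, y * a = 0 → a * z = 0 → y * ((g : EM) - 1) * z = 0}
  one_mem' := by simp
  mul_mem' := fun {g h} hg hh => by
    have e : ((g * h : GLM) : EM) - 1 = ((g : EM) - 1) * ((h : EM) - 1) + ((g : EM) - 1) + ((h : EM) - 1) := by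
      rw [Units.val_mul]; noncomm_ring
    refine ⟨?_, ?_, fun y z hy hz => ?_⟩ <;> rw [e]
    · rw [mul_add, mul_add, ← mul_assoc, hg.1, hh.1]; simp
    · rw [add_mul, add_mul, mul_assoc, hg.2.1, hh.2.1]; simp
    · rw [mul_add, mul_add, add_mul, add_mul, hg.2.2 y z hy hz, hh.2.2 y z hy hz, mul_assoc, hh.2.2 _ z hg.2.1 hz]
      simp
  inv_mem' := fun {g} hg => by
    have e : ((g⁻¹ : GLM) : EM) - 1 = -(((g : EM) - 1) * (g⁻¹ : GLM)) := by rw [sub_mul, Units.mul_inv]; simp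
    have e' : ((g⁻¹ : GLM) : EM) - 1 = -((g⁻¹ : GLM) * ((g : EM) - 1)) := by rw [mul_sub, Units.inv_mul]; simp
    have h1 : a * (((g⁻¹ : GLM) : EM) - 1) = 0 := by rw [e, mul_neg, ← mul_assoc, hg.1]; simp
    refine ⟨h1, by rw [e', neg_mul, mul_assoc, hg.2.1]; simp, fun y z hy hz => ?_⟩
    rw [e, mul_neg, neg_mul, ← mul_assoc, mul_assoc _ _ z, hg.2.2 y _ hy (by
      rw [mul_sub, sub_eq_zero] at h1
      rw [← mul_assoc, h1, mul_one, hz]), neg_zero]

omit [FiniteDimensional k M] in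
theorem EG_le_UU (ha : a * a = 0) : EG G a ≤ UU a := fun _ hg =>
  ⟨eS_mul_left hg ha, eS_mul_right hg ha, fun y z hy _ => by rw [eS_mul_left hg hy, zero_mul]⟩

omit [FiniteDimensional k M] in
theorem UU_le (h1 : a ∈ eS G x) (h2 : x ∈ eS G a) : UU a ≤ UU x := fun _ hg =>
  ⟨eS_mul_right h2 hg.1, eS_mul_left h2 hg.2.1, fun y z hy hz => hg.2.2 y z (eS_mul_left h1 hy) (eS_mul_right h1 hz)⟩

theorem UU_eq (ha : Mn G a) (hx : x ∈ eS G a) (h0 : x ≠ 0) : UU x = UU a :=
  have := ha.eS_eq hx h0 ▸ ha.mem_eS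
  le_antisymm (UU_le hx this) (UU_le this hx)

omit [FiniteDimensional k M] in
theorem conjBy_UU (g : GLM) : conjBy (UU a) g = UU (cj g a) := by
  have key : ∀ (a : EM) (g : GLM), ∀ m ∈ UU a, g * m * g⁻¹ ∈ UU (cj g a) := fun a g m hm => by
    refine ⟨?_, ?_, fun y z hy hz => ?_⟩ <;> rw [cj_coe]
    · rw [← map_mul, hm.1, map_zero]
    · rw [← map_mul, hm.2.1, map_zero]
    · rw [← cj_cj_inv g y, ← cj_cj_inv g z, ← map_mul, ← map_mul, hm.2.2, map_zero]
      · rw [← cj_inv_cj g a, ← map_mul, hy, map_zero]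
      · rw [← cj_inv_cj g a, ← map_mul, hz, map_zero]
  ext m
  refine ⟨fun h => ?_, fun h => mem_conjBy.2 ?_⟩
  · obtain ⟨m, hm, rfl⟩ := mem_conjBy'.1 h
    exact key a g m hm
  · simpa only [cj_inv_cj, inv_inv] using key _ g⁻¹ m h

theorem norm_UU (ha : Mn G a) (hg : conjBy (EG G a) g = EG G a) : conjBy (UU a) g = UU a := by
  rw [conjBy_UU, UU_eq ha (cj_mem_of_norm hg ha.mem_eS) (by simpa using ha.ne)]

omit [FiniteDimensional k M] in
theorem unip_UU : IsUnipotentOn (UU a) := unip_def.2 ⟨3, fun l hl hn => by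
  obtain ⟨x, y, z, rfl⟩ := List.length_eq_three.1 hn
  simpa [mul_assoc] using (hl y (by simp)).2.2 _ _ (hl x (by simp)).2.1 (hl z (by simp)).1⟩

omit [FiniteDimensional k M] in
theorem UU_comm (hg : g ∈ UU a) (hj : j ∈ eS G a) : (g : EM) * j = j * g := by
  have h1 := eS_mul_left hj hg.2.1
  have h2 := eS_mul_right hj hg.1
  linear_combination (norm := noncomm_ring) h1 - h2

omit [FiniteDimensional k M] in
theorem cj_of_comm (h : (g : EM) * j = j * g) : cj g j = j := by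
  rw [cj_apply, h, mul_assoc, Units.mul_inv, mul_one]

omit [FiniteDimensional k M] in
theorem UU_norm (hg : g ∈ UU a) : conjBy (EG G a) g = EG G a :=
  conjBy_of_comm fun x hx => by
    obtain ⟨j, hj, rfl⟩ := mem_EG'.1 hx
    exact Units.ext (by rw [Units.val_mul, Units.val_mul, qu_val, mul_add, add_mul, UU_comm hg hj, mul_one, one_mul])

omit [FiniteDimensional k M] in
theorem pow_eq_one_of_cube {p : ℕ} [hp : Fact p.Prime] [CharP k p] (h2 : (2 : k) ≠ 0) (h : ((g : EM) - 1) ^ 3 = 0) :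
    g ^ p = 1 := by
  rcases subsingleton_or_nontrivial EM with h | h'
  · exact Units.ext (Subsingleton.elim _ _)
  have hp2 : p ≠ 2 := by rintro rfl; exact h2 (CharP.cast_eq_zero k 2)
  have : CharP EM p := charP_of_injective_algebraMap (algebraMap k EM).injective p
  exact Units.ext (by
    rw [Units.val_pow_eq_pow_val, ← add_sub_cancel 1 (g : EM), add_pow_char_of_commute _
      (Commute.one_left _), pow_eq_zero_of_le (by have := hp.out.two_le; omega) h]; simp)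

omit [FiniteDimensional k M] in
theorem UU_pow {p : ℕ} [hp : Fact p.Prime] [CharP k p] (h2 : (2 : k) ≠ 0) (hg : g ∈ UU a) : g ^ p = 1 :=
  pow_eq_one_of_cube h2 (by rw [pow_three, ← mul_assoc]; exact hg.2.2 _ _ hg.2.1 hg.1)

omit [FiniteDimensional k M] in
theorem pgroup_UU {p : ℕ} [hp : Fact p.Prime] [CharP k p] (h2 : (2 : k) ≠ 0) : IsPGroup p (UU a) :=
  fun g => ⟨1, Subtype.ext (by rw [pow_one]; exact UU_pow h2 g.2)⟩

omit [FiniteDimensional k M] in
theorem mem_UU_of (h1 : a * ((g : EM) - 1) = 0) (h2 : ((g : EM) - 1) * a = 0)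
    (h3 : (1 - a * b) * ((g : EM) - 1) * (1 - b * a) = 0) : g ∈ UU a := ⟨h1, h2, fun y z hy hz => by
  generalize (g : EM) - 1 = n at h1 h2 h3
  linear_combination (norm := noncomm_ring) y * h3 * z + hy * b * n * z + y * n * b * hz - hy * b * n * b * a * z⟩

theorem conj_partnerU {p : ℕ} [hp : Fact p.Prime] [CharP k p] (h : PP G a b) (h' : PP G a b') (hK : K ≤ G)
    (h1 : EG G a ≤ K) (h2 : EG G b ≤ K) (h3 : EG G b' ≤ K) : ∃ g ∈ K ⊓ UU a, cj g b = b' := by
  have ha := h.ma.sq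
  have i1 := h.w_sq
  have i2 := h'.w_sq
  have i3 := h.w_four
  have m1 := mul_mem (h.w_mem h1 h2) (h.w_mem h1 h2)
  have m2 := mul_mem (h'.w_mem h1 h3) (h'.w_mem h1 h3)
  have i4 := h'.w_four
  generalize h.w * h.w = i at i1 i3 m1
  generalize h'.w * h'.w = j at i2 i4 m2
  have e1 : a * (((i * j : GLM) : EM) - 1) = 0 := by
    rw [Units.val_mul, i1, i2]
    linear_combination (norm := noncomm_ring) -2 * ha * b * (1 - 2 * (a * b' + b' * a)) -
      2 * h.e1 * (1 - 2 * (a * b' + b' * a)) + 2 * ha * b' + 2 * h'.e1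
  have e2 : (((i * j : GLM) : EM) - 1) * a = 0 := by
    rw [Units.val_mul, i1, i2]
    linear_combination (norm := noncomm_ring) -2 * (1 - 2 * (a * b + b * a)) * b' * ha -
      2 * (1 - 2 * (a * b + b * a)) * h'.e1 + 2 * b * ha + 2 * h.e1
  have e3 : (((i * j : GLM) : EM) - 1) * (1 - b * a) = a * (2 * b' * (1 - b * a) - 2 * b) := by
    rw [Units.val_mul, i1, i2]
    linear_combination (norm := noncomm_ring) 2 * a * h.mb.sq * a + 2 * b * h.e1 + 2 * b' * h.e1 -
      4 * (a * b + b * a) * b' * h.e1 + 4 * h.e1 * b' * (1 - b * a) + 4 * b * ha * b' * (1 - b * a)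
  have e4 : i * j ∈ UU a := mem_UU_of (b := b) e1 e2 (by
    rw [mul_assoc, e3, ← mul_assoc, sub_mul, h.e1, one_mul, sub_self, zero_mul])
  have hp2 : p ≠ 2 := by rintro rfl; exact h.h2 (CharP.cast_eq_zero k 2)
  have e5 : (i * j) ^ p = 1 := UU_pow h.h2 e4
  obtain ⟨m, hm⟩ := hp.out.odd_of_ne_two hp2
  have e6 : ((i * j) ^ (m + 1))⁻¹ * i * (i * j) ^ (m + 1) = j := by
    have : SemiconjBy i (i * j) (i * j)⁻¹ := by
      rw [SemiconjBy, mul_inv_rev, inv_eq_of_mul_eq_one_right i3, inv_eq_of_mul_eq_one_right i4, ← mul_assoc,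
        mul_assoc j, i3, one_mul, mul_one]
    rw [← inv_pow, ← (this.pow_right _).eq, mul_assoc, ← pow_add,
      show m + 1 + (m + 1) = p + 1 by omega, pow_succ, e5, one_mul, ← mul_assoc, i3, one_mul]
  have m3 : ((i * j) ^ (m + 1))⁻¹ ∈ K ⊓ UU a := inv_mem (pow_mem (mem_inf.2 ⟨mul_mem m1 m2, e4⟩) (m + 1))
  have e7 := cj_of_comm (UU_comm m3.2 h.ma.mem_eS)
  generalize (i * j) ^ (m + 1) = s at e6 e7 m3
  have h4 := h.cj (hK m3.1)
  rw [e7] at h4
  obtain ⟨g, hg, e⟩ := h4.conj_of_eps h' (by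
    have := congrArg (RootSub.cj s⁻¹) i1
    rw [cj_apply, inv_inv, ← Units.val_mul, ← Units.val_mul, e6, i2, map_sub, map_one, map_mul, map_ofNat, map_add,
      map_mul, map_mul, e7, sub_right_inj, two_mul, two_mul, ← two_smul k, ← two_smul k] at this
    exact (smul_right_injective _ h.h2 this).symm)
  exact ⟨g * s⁻¹, mul_mem ⟨h1 hg, EG_le_UU ha hg⟩ m3, by rw [cj_mul, e]⟩

theorem opp_conj {p : ℕ} [hp : Fact p.Prime] [CharP k p] (h : PP G a b) (hd : Mn G d) (ho : Opp a d) (hK : K ≤ G)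
    (h1 : EG G a ≤ K) (h2 : EG G b ≤ K) (h3 : EG G d ≤ K) : ∃ g ∈ K ⊓ UU a, conjBy (EG G b) g = EG G d := by
  obtain ⟨b', h4, h5, e1, e2⟩ := ho.symm.partner h.h2 h.h3 hd h.ma h.ma.mem_eS h.ma.ne
  obtain ⟨g, hg, e⟩ := conj_partnerU h ⟨h.h2, h.h3, h.ma, (hd.of_eS h4 h5).1, e2, e1⟩ hK h1 h2 (hd.EG_eq h4 h5 ▸ h3)
  exact ⟨g, hg, by rw [conjBy_EG (hK hg.1), e, hd.EG_eq h4 h5]⟩

theorem norm_split {p : ℕ} [hp : Fact p.Prime] [CharP k p] (h : PP G a b) (hK : K ≤ G)
    (h1 : EG G a ≤ K) (h2 : EG G b ≤ K) (hg : g ∈ K) (hn : conjBy (EG G a) g = EG G a) :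
    ∃ m ∈ K ⊓ UU a, conjBy (EG G a) (m⁻¹ * g) = EG G a ∧ conjBy (EG G b) (m⁻¹ * g) = EG G b := by
  have h3 := h.cj (hK hg)
  obtain ⟨m, hm, e⟩ := opp_conj h h3.mb (h3.opp.of_eS h3.ma h3.mb
    (h.ma.eS_eq (cj_mem_of_norm hn h.ma.mem_eS) h3.ma.ne ▸ h.ma.mem_eS) h.ma.ne h3.mb.mem_eS h3.mb.ne) hK h1 h2
    (conjBy_EG (hK hg) ▸ conjBy_le_of_mem h2 hg)
  exact ⟨m, hm, conjBy_mul_of_eq (UU_norm (inv_mem hm.2)) hn, by
    rw [← conjBy_conjBy, conjBy_EG (hK hg), ← e, conjBy_inv_conjBy]⟩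

omit [FiniteDimensional k M] in
theorem partner_unique (h : PP G a b) (hb : b' ∈ eS G b) (e : a * b' * a = a) : b' = b := by
  have h1 := sub_mem hb h.mb.mem_eS
  linear_combination (norm := noncomm_ring) -h.symm.l h1 - b * a * h.symm.r h1 + b * e * b - b * h.e1 * b

omit [FiniteDimensional k M] in
theorem partner_mul (h : PP G a b) (h' : PP G x y) (hx : a ∈ eS G x) (hy : y ∈ eS G b) : x * y = a * b := by
  linear_combination (norm := noncomm_ring) h'.l hx * b - x * h.symm.r hy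

omit [FiniteDimensional k M] in
theorem w_val (h : PP G a b) : (h.w : EM) = 1 - a * b - b * a + a - b := by
  simp only [PP.w, Units.val_mul, qu_val, qu_inv_val]
  linear_combination (norm := noncomm_ring) h.ma.sq - h.e1

omit [FiniteDimensional k M] in
theorem w_inv_val (h : PP G a b) : ((h.w⁻¹ : GLM) : EM) = 1 - a * b - b * a - a + b := by
  simp only [PP.w, mul_inv_rev, inv_inv, Units.val_mul, qu_val, qu_inv_val]
  linear_combination (norm := noncomm_ring) h.ma.sq + h.e1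

omit [FiniteDimensional k M] in
theorem conjBy_w (h : PP G a b) : conjBy (EG G b) h.w = EG G a := by
  rw [conjBy_EG (h.w_mem EG_le EG_le), h.cj_w h.mb.mem_eS, h.e1, EG_neg]

omit [FiniteDimensional k M] in
theorem conjBy_w' (h : PP G a b) : conjBy (EG G a) h.w = EG G b := by
  rw [← conjBy_w h, conjBy_conjBy]
  refine conjBy_of_comm fun x hx => Units.ext ?_
  obtain ⟨j, hj, rfl⟩ := mem_EG'.1 hx
  rw [Units.val_mul _ (qu _ _), Units.val_mul (qu _ _), h.w_sq, qu_val]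
  linear_combination (norm := noncomm_ring) -2 * a * eS_mul h.mb.mem_eS hj - 2 * h.symm.l hj + 2 * h.symm.r hj +
    2 * eS_mul hj h.mb.mem_eS * a

omit [FiniteDimensional k M]

theorem ra {u v w : EM} (h : u * v = w) : u * v = w ∧ ∀ z, u * (v * z) = w * z :=
  ⟨h, fun z => by rw [← mul_assoc, h]⟩

theorem ra3 {t u v w : EM} (h : t * u * v = w) : t * (u * v) = w ∧ ∀ z, t * (u * (v * z)) = w * z :=
  ⟨by rw [← mul_assoc, h], fun z => by rw [← mul_assoc, ← mul_assoc, h]⟩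

theorem nf {R : Type*} [Ring R] : (∀ a b c : R, a * (b + c) = a * b + a * c) ∧ (∀ a b c : R, (a + b) * c = a * c + b * c) ∧
    (∀ a b c : R, a * (b - c) = a * b - a * c) ∧ (∀ a b c : R, (a - b) * c = a * c - b * c) ∧
    (∀ a b : R, -a * b = -(a * b)) ∧ (∀ a b : R, a * -b = -(a * b)) ∧ (∀ a b c : R, a * b * c = a * (b * c)) ∧
    (∀ a : R, 1 * a = a) ∧ (∀ a : R, a * 1 = a) ∧ (∀ a : R, 0 * a = 0) ∧ (∀ a : R, a * 0 = 0) ∧
    (∀ a : R, 0 + a = a) ∧ (∀ a : R, a + 0 = a) ∧ (∀ a : R, a - 0 = a) ∧ (∀ a : R, 0 - a = -a) ∧ -(0 : R) = 0 ∧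
    (∀ a : R, 2 * a = a + a) ∧ ∀ a : R, a - a = 0 :=
  ⟨mul_add, add_mul, mul_sub, sub_mul, neg_mul, mul_neg, mul_assoc, one_mul, mul_one, zero_mul, mul_zero, zero_add,
    add_zero, sub_zero, zero_sub, neg_zero, two_mul, sub_self⟩

/-- Right associated rules. -/
abbrev R2 (u v w : EM) : Prop := u * v = w ∧ ∀ z, u * (v * z) = w * z

/-- Right associated rules. -/
abbrev R3 (t u v w : EM) : Prop := t * (u * v) = w ∧ ∀ z, t * (u * (v * z)) = w * z

theorem psm (P : PP G a b) : R3 a b a a ∧ R3 b a b b ∧ R2 a a 0 ∧ R2 b b 0 :=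
  ⟨ra3 P.e1, ra3 P.e2, ra P.ma.sq, ra P.mb.sq⟩

/-- Blocks of an element of the unipotent radical. -/
structure Bl (a b α β τ : EM) : Prop where
  a1 : a * b * α = α
  a2 : α * a = 0
  a3 : α * b = 0
  a4 : a * α = 0
  b1 : β * b * a = β
  b2 : a * β = 0
  b3 : b * β = 0
  b4 : β * a = 0
  t1 : a * b * τ = τ
  t2 : τ * b * a = τ
  t3 : a * τ = 0
  t4 : τ * a = 0

/-- Blocks of an element of the unipotent radical lying in `K`. -/
structure V (K : Subgroup GLM) (a b α β τ : EM) : Prop extends Bl a b α β τ where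
  mem : 1 + α + β + τ ∈ mon K

variable {α β τ α' β' τ' : M →ₗ[k] M}

namespace Bl

variable (h : Bl a b α β τ) (h' : Bl a b α' β' τ')
include h h'

theorem aa : α * α' = 0 := by rw [← h'.a1, ← mul_assoc, ← mul_assoc, h.a2]; simp
theorem at' : α * τ' = 0 := by rw [← h'.t1, ← mul_assoc, ← mul_assoc, h.a2]; simp
theorem ba : β * α' = 0 := by rw [← h.b1, mul_assoc, h'.a4]; simp
theorem bb : β * β' = 0 := by rw [← h.b1, mul_assoc, h'.b2]; simp
theorem bt : β * τ' = 0 := by rw [← h.b1, mul_assoc, h'.t3]; simp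
theorem ta : τ * α' = 0 := by rw [← h.t2, mul_assoc, h'.a4]; simp
theorem tb : τ * β' = 0 := by rw [← h.t2, mul_assoc, h'.b2]; simp
theorem tt : τ * τ' = 0 := by rw [← h.t2, mul_assoc, h'.t3]; simp

theorem cr : R2 α α' 0 ∧ R2 α τ' 0 ∧ R2 β α' 0 ∧ R2 β β' 0 ∧ R2 β τ' 0 ∧ R2 τ α' 0 ∧ R2 τ β' 0 ∧ R2 τ τ' 0 :=
  ⟨ra (h.aa h'), ra (h.at' h'), ra (h.ba h'), ra (h.bb h'), ra (h.bt h'), ra (h.ta h'), ra (h.tb h'), ra (h.tt h')⟩

omit h' in
theorem sm : R3 a b α α ∧ R2 α a 0 ∧ R2 α b 0 ∧ R2 a α 0 ∧ R3 β b a β ∧ R2 a β 0 ∧ R2 b β 0 ∧ R2 β a 0 ∧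
    R3 a b τ τ ∧ R3 τ b a τ ∧ R2 a τ 0 ∧ R2 τ a 0 :=
  ⟨ra3 h.a1, ra h.a2, ra h.a3, ra h.a4, ra3 h.b1, ra h.b2, ra h.b3, ra h.b4, ra3 h.t1, ra3 h.t2, ra h.t3, ra h.t4⟩

theorem mul_eq : (1 + α + β + τ) * (1 + α' + β' + τ') = 1 + (α + α') + (β + β') + (τ + τ' + α * β') := by
  linear_combination (norm := noncomm_ring) h.aa h' + h.at' h' + h.ba h' + h.bb h' + h.bt h' + h.ta h' + h.tb h' +
    h.tt h'

theorem mul : Bl a b (α + α') (β + β') (τ + τ' + α * β') := by
  constructor <;> simp only [nf, h.sm, h'.sm]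

omit h'

theorem inv : Bl a b (-α) (-β) (α * β - τ) := by
  constructor <;> simp only [nf, h.sm]

theorem mul_inv : (1 + α + β + τ) * (1 + -α + -β + (α * β - τ)) = 1 := by
  rw [h.mul_eq h.inv]; noncomm_ring

theorem cj (ha : cj g a = a) (hb : cj g b = b) : Bl a b (cj g α) (cj g β) (cj g τ) := by
  have key : ∀ {u v : EM}, u = v → RootSub.cj g u = RootSub.cj g v := fun e => congrArg _ e
  constructor
  all_goals first
    | simpa only [map_mul, ha, hb, map_zero] using key h.a1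
    | simpa only [map_mul, ha, hb, map_zero] using key h.a2
    | simpa only [map_mul, ha, hb, map_zero] using key h.a3
    | simpa only [map_mul, ha, hb, map_zero] using key h.a4
    | simpa only [map_mul, ha, hb, map_zero] using key h.b1
    | simpa only [map_mul, ha, hb, map_zero] using key h.b2
    | simpa only [map_mul, ha, hb, map_zero] using key h.b3
    | simpa only [map_mul, ha, hb, map_zero] using key h.b4
    | simpa only [map_mul, ha, hb, map_zero] using key h.t1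
    | simpa only [map_mul, ha, hb, map_zero] using key h.t2
    | simpa only [map_mul, ha, hb, map_zero] using key h.t3
    | simpa only [map_mul, ha, hb, map_zero] using key h.t4

theorem mem_UU (e : (g : EM) = 1 + α + β + τ) : g ∈ UU a := by
  have e' : (g : EM) - 1 = α + β + τ := by rw [e]; abel
  refine mem_UU_of (b := b) ?_ ?_ ?_ <;> rw [e']
  · linear_combination (norm := noncomm_ring) h.a4 + h.b2 + h.t3
  · linear_combination (norm := noncomm_ring) h.a2 + h.b4 + h.t4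
  · linear_combination (norm := noncomm_ring) -h.a1 + h.a1 * b * a - h.b1 + a * b * h.b1 - h.t1 + h.t1 * b * a

end Bl

theorem exists_bl (P : PP G a b) {n : EM} (h1 : a * n = 0) (h2 : n * a = 0) (h3 : (1 - a * b) * n * (1 - b * a) = 0) :
    ∃ α β τ, Bl a b α β τ ∧ n = α + β + τ := by
  have e1 := P.e1
  have e2 := P.e2
  have ha := P.ma.sq
  refine ⟨n * (1 - b * a), (1 - a * b) * n, a * b * n * b * a, ⟨?_, ?_, ?_, ?_, ?_, ?_, ?_, ?_, ?_, ?_, ?_, ?_⟩, ?_⟩
  · linear_combination (norm := noncomm_ring) -h3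
  · linear_combination (norm := noncomm_ring) h2 - n * b * ha
  · linear_combination (norm := noncomm_ring) -n * e2
  · linear_combination (norm := noncomm_ring) h1 - h1 * b * a
  · linear_combination (norm := noncomm_ring) -h3
  · linear_combination (norm := noncomm_ring) h1 - ha * b * n
  · linear_combination (norm := noncomm_ring) -e2 * n
  · linear_combination (norm := noncomm_ring) h2 - a * b * h2
  · linear_combination (norm := noncomm_ring) e1 * b * n * b * a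
  · linear_combination (norm := noncomm_ring) a * b * n * b * e1
  · linear_combination (norm := noncomm_ring) ha * b * n * b * a
  · linear_combination (norm := noncomm_ring) a * b * n * b * ha
  · linear_combination (norm := noncomm_ring) -h3

theorem UU_mid (P : PP G a b) (hg : g ∈ UU a) : (1 - a * b) * ((g : EM) - 1) * (1 - b * a) = 0 :=
  hg.2.2 _ _ (by rw [sub_mul, P.e1, one_mul, sub_self]) (by rw [mul_sub, ← mul_assoc, P.e1, mul_one, sub_self])

theorem exists_V (P : PP G a b) (hg : g ∈ K ⊓ UU a) : ∃ α β τ, V K a b α β τ ∧ (g : EM) = 1 + α + β + τ := by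
  obtain ⟨α, β, τ, h, e⟩ := exists_bl P hg.2.1 hg.2.2.1 (UU_mid P hg.2)
  have e' : (g : EM) = 1 + α + β + τ := by rw [add_assoc, add_assoc, ← add_assoc α, ← e, add_sub_cancel]
  exact ⟨α, β, τ, ⟨h, e' ▸ coe_mem_mon.2 hg.1⟩, e'⟩

namespace V

variable (h : V K a b α β τ)
include h

theorem ex : ∃ g ∈ K ⊓ UU a, (g : EM) = 1 + α + β + τ ∧ ((g⁻¹ : GLM) : EM) = 1 + -α + -β + (α * β - τ) := by
  obtain ⟨g, hg, e⟩ := h.mem
  have e' : (g : EM) = 1 + α + β + τ := e
  exact ⟨g, ⟨hg, h.mem_UU e'⟩, e', Units.inv_eq_of_mul_eq_one_right (e' ▸ h.mul_inv)⟩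

theorem mul (h' : V K a b α' β' τ') : V K a b (α + α') (β + β') (τ + τ' + α * β') :=
  ⟨h.toBl.mul h'.toBl, h.mul_eq h'.toBl ▸ mul_mem h.mem h'.mem⟩

theorem cj (hg : conjBy K g = K) (ha : cj g a = a) (hb : cj g b = b) : V K a b (cj g α) (cj g β) (cj g τ) := by
  obtain ⟨m, hm, e, -⟩ := h.ex
  refine ⟨h.toBl.cj ha hb, _, hg ▸ conj_mem_conjBy hm.1 g, ?_⟩
  change RootSub.cj g m = _
  simp only [e, map_add, map_one]

theorem add (P : PP G a b) (h1 : EG G a ≤ K) (hj : j ∈ eS G a) : V K a b α β (τ + j) := by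
  have h' : V K a b 0 0 j := ⟨⟨by simp, by simp, by simp, by simp, by simp, by simp, by simp, by simp, P.l hj, P.r hj,
    eS_mul P.ma.mem_eS hj, eS_mul hj P.ma.mem_eS⟩, by simpa using coe_mem_mon.2 (h1 (qu_mem_EG hj))⟩
  simpa using h.mul h'

end V

end Gen

section Prime

variable {p : ℕ} [hp : Fact p.Prime] {M : Type*} [AddCommGroup M] [Module (ZMod p) M]

local notation "GLM" => LinearMap.GeneralLinearGroup (ZMod p) M
local notation "EM" => M →ₗ[ZMod p] M

variable {G K : Subgroup (LinearMap.GeneralLinearGroup (ZMod p) M)} {a b y α β τ : M →ₗ[ZMod p] M}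

theorem one_add_pow (e : y * y = 0) (n : ℕ) : (1 + y) ^ n = 1 + (n : ZMod p) • y := by
  induction n with
  | zero => simp
  | succ n ih => rw [pow_succ, ih, Nat.cast_succ, add_smul, one_smul, mul_add, mul_one, add_mul, smul_mul_assoc, e,
      smul_zero, add_zero, one_mul, add_assoc]

theorem qf_of (e : y * y = 0) (h : 1 + y ∈ mon G) : QF G y := ⟨e, fun t => by
  obtain ⟨n, rfl⟩ := ZMod.natCast_zmod_surjective t
  rw [← one_add_pow e]
  exact pow_mem h n⟩

theorem deg2 (P : PP G a b) (h1 : a * b * y = y) (h2 : y * b * a = y) (h : 1 + y ∈ mon G) : y ∈ eS G a :=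
  mem_eS P.ma.sq (qf_of (by linear_combination (norm := noncomm_ring) -h2 * y - y * b * a * h1 + y * b * P.ma.sq * b * y) h)
    (h2 ▸ LinearMap.ker_le_ker_comp _ _) (by rw [← h1, mul_assoc]; exact LinearMap.range_comp_le_range _ _)

theorem V.j_mem (h : V K a b α β τ) (P : PP G a b) (hK : K ≤ G) : τ + τ - α * β ∈ eS G a := by
  have hw := coe_mem_mon.2 (mul_mem (P.w_mem EG_le EG_le) (P.w_mem EG_le EG_le))
  rw [P.w_sq] at hw
  refine deg2 P (by linear_combination (norm := noncomm_ring) 2 * h.t1 - h.a1 * β)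
    (by linear_combination (norm := noncomm_ring) 2 * h.t2 - α * h.b1) ?_
  convert mul_mem (mon_mono hK h.mem) (mul_mem (mul_mem hw (mon_mono hK h.mem)) hw) using 1
  have : (1 - 2 * (a * b + b * a)) * (1 + α + β + τ) * (1 - 2 * (a * b + b * a)) = 1 + -α + -β + τ := by
    simp only [nf, h.sm, psm P]
    abel
  have h' : Bl a b (-α) (-β) τ := { h.inv with t1 := h.t1, t2 := h.t2, t3 := h.t3, t4 := h.t4 }
  rw [this, h.mul_eq h']; noncomm_ring

end Prime

end CfsgLib.EqK
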