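import Mathlib
import Cfsg.Agent.Lib.EqK.Blk

/-! The elements interchanging two opposite root subgroups of a quadratic pair. -/

set_option autoImplicit false

namespace CfsgLib.EqK

open Cfsg CfsgLib.RootSub CfsgLib.EqZJ Subgroup

variable {p : ℕ} [hp : Fact p.Prime] {M : Type*} [AddCommGroup M] [Module (ZMod p) M] [FiniteDimensional (ZMod p) M]

local notation "GLM" => LinearMap.GeneralLinearGroup (ZMod p) M
local notation "EM" => M →ₗ[ZMod p] M

variable {G K Q : Subgroup (LinearMap.GeneralLinearGroup (ZMod p) M)} {a b j y η α β τ α' β' τ' : M →ₗ[ZMod p] M}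

theorem exists_mu (P : PP G a b) (hK : K ≤ G) (h1 : EG G a ≤ K) (h2 : EG G b ≤ K) (h : V K a b α β τ)
    (n1 : τ * b * (α * β - τ) ≠ 0) (n2 : (α * β - τ) * b * τ ≠ 0) :
    ∃ μ ∈ K, ∃ t t' : EM, conjBy (EG G a) μ = EG G b ∧ conjBy (EG G b) μ = EG G a ∧
      (μ : EM) = τ + t + (1 - a * b - b * a) - β * t' * α ∧ τ * t' = a * b ∧ t' * τ = b * a ∧
      t * (α * β - τ) = b * a ∧ (α * β - τ) * t = a * b ∧ b * a * t = t ∧ t * a * b = t ∧ b * a * t' = t' ∧
      t' * a * b = t' := by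
  obtain ⟨m, hm, e, e'⟩ := h.ex
  have op : ∀ m ∈ K, a * (b * cj m b * b) * a ≠ 0 → ∃ n ∈ K ⊓ UU b, conjBy (EG G a) n = conjBy (EG G b) m :=
    fun m hm h0 => by
      have := P.mb.cj (hK hm)
      rw [conjBy_EG (hK hm)]
      exact opp_conj P.symm this (opp_of_ne P.h2 P.h3 P.mb this fun e => h0 (by rw [e]; simp)) hK h2 h1
        (conjBy_EG (hK hm) ▸ conjBy_le_of_mem h2 hm)
  obtain ⟨n₁, hn₁, c1⟩ := op m hm.1 (by
    convert n1 using 1
    simp only [cj_apply, e, e', nf, h.sm, psm P])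
  obtain ⟨n₂, hn₂, c2⟩ := op m⁻¹ (inv_mem hm.1) (by
    convert n2 using 1
    simp only [cj_apply, inv_inv, e, e', nf, h.sm, psm P])
  have hμ : n₁⁻¹ * m * n₂ ∈ K := mul_mem (mul_mem (inv_mem hn₁.1) hm.1) hn₂.1
  have c3 : conjBy (EG G a) (n₁⁻¹ * m * n₂) = EG G b := by
    rw [← conjBy_conjBy, c2, ← conjBy_conjBy, conjBy_conjBy_inv, UU_norm (inv_mem hn₁.2)]
  have c4 : conjBy (EG G b) (n₁⁻¹ * m * n₂) = EG G a := by
    rw [← conjBy_conjBy, UU_norm hn₂.2, ← conjBy_conjBy, ← c1, conjBy_inv_conjBy]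
  have P' := P.cj (hK hμ)
  have m1 := cj_mem_of_norm c3 P.ma.mem_eS
  have m2 := cj_mem_of_norm c4 P.mb.mem_eS
  have s1 := partner_mul P.symm P' (P.mb.eS_eq m1 P'.ma.ne ▸ P.mb.mem_eS) m2
  have s2 := partner_mul P P'.symm (P.ma.eS_eq m2 P'.mb.ne ▸ P.ma.mem_eS) m1
  rw [← map_mul, cj_apply, Units.mul_inv_eq_iff_eq_mul] at s1 s2
  have x1 := (inv_mem hn₁.2 : n₁⁻¹ ∈ UU b).1
  have x2 := hn₂.2.2.1
  have x3 := (inv_mem hn₂.2 : n₂⁻¹ ∈ UU b).1
  have x4 := hn₁.2.2.1
  have x5 := hn₁.2.1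
  have x6 := UU_mid P.symm hn₁.2
  have x7 := UU_mid P.symm hn₂.2
  rw [mul_sub, mul_one, sub_eq_zero] at x1 x3 x5
  rw [sub_mul, one_mul, sub_eq_zero] at x2 x4
  have u1 : a * b * (n₁⁻¹ * m * n₂ : GLM) * (b * a) = τ := by
    simp only [Units.val_mul, e, nf, h.sm, psm P, ra x1, ra x2]
  have u2 : a * b * ((n₁⁻¹ * m * n₂)⁻¹ : GLM) * (b * a) = α * β - τ := by
    simp only [mul_inv_rev, inv_inv, Units.val_mul, e', nf, h.sm, psm P, ra x3, ra x4]
  have u3 : (n₁ : EM) * (n₁⁻¹ * m * n₂ : GLM) = (1 + α + β + τ) * n₂ := by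
    rw [← e, ← Units.val_mul, ← Units.val_mul, mul_assoc, mul_inv_cancel_left]
  have i1 := (n₁⁻¹ * m * n₂).mul_inv
  have i2 := (n₁⁻¹ * m * n₂).inv_mul
  refine ⟨_, hμ, (n₁⁻¹ * m * n₂ : GLM) * (a * b), ((n₁⁻¹ * m * n₂)⁻¹ : GLM) * (a * b), c3, c4, ?_⟩
  generalize (((n₁⁻¹ * m * n₂)⁻¹ : GLM) : EM) = μi at *
  generalize ((n₁⁻¹ * m * n₂ : GLM) : EM) = μ at *
  generalize (n₁ : EM) = n at *
  generalize (n₂ : EM) = n' at *
  have e1 := P.e1
  have e2 := P.e2
  have ha := P.ma.sq
  have hb := P.mb.sq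
  have s3 : μi * (a * b) = b * a * μi := by
    linear_combination (norm := noncomm_ring) -μi * a * b * i1 - μi * s2 * μi + i2 * b * a * μi
  have s4 : μi * (b * a) = a * b * μi := by
    linear_combination (norm := noncomm_ring) -μi * b * a * i1 - μi * s1 * μi + i2 * a * b * μi
  have v1 : μ * (b * a) = τ := by linear_combination (norm := noncomm_ring) u1 - μ * b * e1 + s2 * b * a
  have v2 : μi * (b * a) = α * β - τ := by linear_combination (norm := noncomm_ring) u2 - μi * b * e1 + s4 * b * a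
  have g3 : μi * (a * b) * τ = b * a := by
    linear_combination (norm := noncomm_ring) b * e1 + b * a * i2 * b * a + s3 * τ - b * a * μi * v1
  refine ⟨?_, by
    linear_combination (norm := noncomm_ring) e1 * b + a * b * i1 * a * b + s2 * μi * a * b - v1 * μi * a * b, g3, by
    linear_combination (norm := noncomm_ring) b * e1 + b * a * i1 * b * a + s1 * α * β - s1 * τ - b * a * μ * v2, by
    linear_combination (norm := noncomm_ring) e1 * b + i2 * a * b * a * b - μi * s1 * a * b - v2 * μ * a * b, by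
    linear_combination (norm := noncomm_ring) μ * e1 * b - s1 * a * b, by
    linear_combination (norm := noncomm_ring) μ * e1 * b, by
    linear_combination (norm := noncomm_ring) μi * e1 * b - s3 * a * b, by
    linear_combination (norm := noncomm_ring) μi * e1 * b⟩
  have f0 : b * a * ((n' - 1) * (1 - a * b - b * a)) = (n' - 1) * (1 - a * b - b * a) := by
    linear_combination (norm := noncomm_ring) x2 * a - b * a * x2 * a - x7
  have u4 : n * μ * (1 - a * b - b * a) = (1 + α + β + τ) * (1 - a * b - b * a + (n' - 1) * (1 - a * b - b * a)) := by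
    rw [u3]; noncomm_ring
  generalize (n' - 1) * (1 - a * b - b * a) = δ at f0 u4
  have f4 : b * δ = 0 := by rw [← f0, ← mul_assoc, ← mul_assoc, hb, zero_mul, zero_mul]
  have f5 : α * δ = 0 := by rw [← f0, ← mul_assoc, ← mul_assoc, h.a3, zero_mul, zero_mul]
  have f1 : α + τ * δ = 0 := by
    have : a * b * (n * μ * (1 - a * b - b * a)) = 0 := by
      linear_combination (norm := noncomm_ring) -e1 * b * μ - μ * b * ha * b + s2 * a * b - a * b * s2 + a * x5 * μ -
        a * x5 * μ * a * b - a * x5 * μ * b * a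
    rw [u4] at this
    simp only [nf, h.sm, psm P, f4, f5] at this
    rw [← this]; abel
  have f2 : μ * (1 - a * b - b * a) = 1 - a * b - b * a + β * δ := by
    have : (1 - a * b - b * a) * (n * μ * (1 - a * b - b * a)) = μ * (1 - a * b - b * a) := by
      linear_combination (norm := noncomm_ring) μ * e1 * b + μ * b * e1 + b * ha * b * μ + μ * b * ha * b + 2 * s1 -
        s1 * a * b - b * a * s1 + b * a * n * s1 - n * s1 + 2 * s2 - s2 * a * b - s2 * b * a + b * a * n * s2 - n * s2 -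
        x4 * a * μ + b * a * x4 * a * μ - a * x5 * μ + a * x5 * μ * a * b + a * x5 * μ * b * a + x6 * μ
    rw [← this, u4]
    simp only [nf, h.sm, psm P, f4, f5, ra3 f0]
    abel
  linear_combination (norm := noncomm_ring) β * μi * a * b * f1 + f2 - β * g3 * δ - h.b1 * δ + v1

theorem eS_nil (P : PP G a b) (hj : j ∈ eS G a) {s t : EM} (h1 : s * t = a * b) (h2 : b * a * t = t)
    (hn : IsNilpotent (j * t)) : j = 0 := by
  by_contra h0
  obtain ⟨y, h3, -, h4⟩ := P.part hj h0
  have h5 := partner_mul P.symm h3.symm (h4 ▸ P.mb.mem_eS) hj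
  have := eq_zero_of_nil (u := s * y) (e := a * b) hn (by rw [mul_assoc, ← mul_assoc y, h5, h2, h1])
    (by rw [← mul_assoc, P.l hj])
  exact P.ma.ne (by rw [← P.e1, this, zero_mul])

omit [FiniteDimensional (ZMod p) M] in
theorem two_cancel (h2 : (2 : ZMod p) ≠ 0) (e : y + y = 0) : y = 0 := by
  rw [← two_smul (ZMod p)] at e
  exact (smul_eq_zero.1 e).resolve_left h2

omit [FiniteDimensional (ZMod p) M] in
theorem V.half (h : V K a b α β τ) (P : PP G a b) (hK : K ≤ G) (h1 : EG G a ≤ K) :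
    ∃ σ, V K a b α β σ ∧ σ + σ = α * β ∧ τ - σ ∈ eS G a := by
  have h2 := (eS G a).smul_mem (2 : ZMod p)⁻¹ (h.j_mem P hK)
  refine ⟨_, h.add P h1 (neg_mem h2), ?_, by simpa using h2⟩
  rw [add_add_add_comm, ← neg_add, ← two_smul (ZMod p) ((2 : ZMod p)⁻¹ • _), smul_inv_smul₀ P.h2]
  abel

/-- A quadratic element in a unipotent group normalized by the stabilizer of two opposite root subgroups. -/
structure Cx (G K Q : Subgroup GLM) (a b η : EM) : Prop where
  P : PP G a b
  hK : K ≤ G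
  h1 : EG G a ≤ K
  h2 : EG G b ≤ K
  hη : QF G η
  uQ : IsUnipotentOn Q
  mem : qu η hη.sq ∈ Q
  nA : ∀ g ∈ Q, conjBy (EG G a) g = EG G a
  nB : ∀ g ∈ Q, conjBy (EG G b) g = EG G b
  nQ : ∀ g ∈ K, conjBy (EG G a) g = EG G a → conjBy (EG G b) g = EG G b → conjBy Q g = Q
  nK : conjBy K (qu η hη.sq) = K

namespace Cx

variable (c : Cx G K Q a b η)
include c

theorem ca (hj : j ∈ eS G a) : η * j = j * η := comm_of_norm c.P.h2 c.P.ma c.hη.sq (c.nA _ c.mem) hj

theorem cb (hj : j ∈ eS G b) : η * j = j * η := comm_of_norm c.P.h2 c.P.mb c.hη.sq (c.nB _ c.mem) hj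

theorem blk (h : Bl a b α β τ) : a * b * ((1 + -α + -β + (α * β - τ)) * η * (1 + α + β + τ)) * b * a =
    η * τ + (α * β - τ) * η - α * η * β := by
  have ca := c.ca c.P.ma.mem_eS
  have cb := c.cb c.P.mb.mem_eS
  have e1 : a * b * (1 + -α + -β + (α * β - τ)) = a * b - α + (α * β - τ) := by
    simp only [nf, h.sm]; abel
  have e2 : (1 + α + β + τ) * (b * a) = b * a + β + τ := by simp only [nf, h.sm]
  have e3 : a * b * η = η * (a * b) := by linear_combination (norm := noncomm_ring) -a * cb - ca * b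
  have e4 : η * (b * a) = b * a * η := by linear_combination (norm := noncomm_ring) b * ca + cb * a
  have e5 : (α * β - τ) * η * (β + τ) = 0 := by
    linear_combination (norm := noncomm_ring) -h.inv.t2 * η * (β + τ) - (α * β - τ) * b * ca * (β + τ) +
      (α * β - τ) * b * η * (h.b2 + h.t3)
  have e6 : α * η * τ = 0 := by
    linear_combination (norm := noncomm_ring) -α * η * h.t1 + α * ca * b * τ + h.a2 * η * b * τ
  rw [mul_assoc (a * b * _), ← mul_assoc (a * b), ← mul_assoc (a * b), e1, mul_assoc _ _ (b * a), e2]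
  linear_combination (norm := noncomm_ring) e3 * (b * a + β + τ) + η * a * c.P.mb.sq * a + η * a * h.b3 + η * h.t1 -
    α * e4 - h.a3 * a * η - e6 + (α * β - τ) * e4 + h.inv.t2 * η + e5

theorem th_mem (h : V K a b α β τ) : η * τ + (α * β - τ) * η - α * η * β ∈ eS G a := by
  obtain ⟨m, hm, e, e'⟩ := h.ex
  have := c.P.sq_mem c.P.ma.mem_eS (dyd c.P.h2 c.P.h3 c.P.mb (c.hη.cj (inv_mem (c.hK hm.1))))
  rw [cj_apply, inv_inv, e, e'] at this
  rw [← c.blk h.toBl]
  simpa only [mul_assoc] using this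

omit [FiniteDimensional (ZMod p) M] in
theorem phi {μ : GLM} (hμ : μ ∈ K) (c1 : conjBy (EG G a) μ = EG G b) (c2 : conjBy (EG G b) μ = EG G a) :
    conjBy (EG G a) (μ * c.P.w⁻¹) = EG G a ∧ conjBy Q (μ * c.P.w⁻¹) = Q := by
  have e1 : conjBy (EG G a) (μ * c.P.w⁻¹) = EG G a := by
    rw [← conjBy_conjBy, ← conjBy_w c.P, conjBy_inv_conjBy, c2, conjBy_w c.P]
  exact ⟨e1, c.nQ _ (mul_mem hμ (inv_mem (c.P.w_mem c.h1 c.h2))) e1 (by
    rw [← conjBy_conjBy, ← conjBy_w' c.P, conjBy_inv_conjBy, c1, conjBy_w' c.P])⟩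

theorem generic {σ : EM} (h : V K a b α β σ) (hs : σ + σ = α * β) (h0 : σ * b * σ ≠ 0) :
    η * σ + σ * η - α * η * β = 0 := by
  have P := c.P
  have e : α * β - σ = σ := by rw [← hs, add_sub_cancel_right]
  have hΘ := c.th_mem h
  obtain ⟨μ, hμ, t, t', c1, c2, eμ, g0, g0', g2, g1, g3, g4, g5, g6⟩ := exists_mu P c.hK c.h1 c.h2 h
    (by rwa [e]) (by rwa [e])
  rw [e] at g1 g2 hΘ
  obtain rfl : t = t' := by linear_combination (norm := noncomm_ring) -g3 - g0' * t + t' * g1 + g6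
  have ca := c.ca P.ma.mem_eS
  have cb := c.cb P.mb.mem_eS
  have hb := P.mb.sq
  have d1 : t * t = 0 := by linear_combination (norm := noncomm_ring) -t * g3 - g4 * b * a * t + t * a * hb * a * t
  have d2 : b * t = 0 := by linear_combination (norm := noncomm_ring) -b * g3 + hb * a * t
  have d3 : t * b = 0 := by linear_combination (norm := noncomm_ring) -g4 * b + t * a * hb
  have d4 : α * t = 0 := by linear_combination (norm := noncomm_ring) -α * g3 + h.a3 * a * t
  have d5 : t * β = 0 := by linear_combination (norm := noncomm_ring) -g4 * β + t * a * h.b3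
  have R := And.intro (And.intro (psm P) h.sm) (And.intro (h.cr h.toBl) (And.intro (And.intro (ra d1) (ra d2))
    (And.intro (And.intro (ra d3) (ra d4)) (And.intro (And.intro (ra d5) (ra hs.symm)) (And.intro
      (And.intro (ra g1) (ra g2)) (And.intro (ra3 g3) (ra3 g4)))))))
  have m0 : (μ : EM) * μ = 1 := by simp only [eμ, nf, R]; abel
  have m1 : (μ : EM) * (a * b) = t := by simp only [eμ, nf, R]
  have m2 : (μ : EM) * (b * a) = σ := by simp only [eμ, nf, R]
  have m4 : b * a * (μ : EM) = t := by simp only [eμ, nf, R]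
  have m5 : α * (μ : EM) = -α := by simp only [eμ, nf, R]; abel
  have m6 : (μ : EM) * β = -β := by simp only [eμ, nf, R]; abel
  have m7 : (μ : EM) * t = a * b := by simp only [eμ, nf, R]
  have m8 : t * (μ : EM) = b * a := by simp only [eμ, nf, R]
  have m9 : (μ : EM) * (η * β) = η * β - β * t * α * (η * β) := by
    rw [eμ]
    linear_combination (norm := noncomm_ring) b * ca * β - σ * b * ca * β + a * cb * β - t * a * cb * β - g4 * η * β -
      b * η * h.b2 + σ * b * η * h.b2 - a * η * h.b3 + t * a * η * h.b3 - h.t2 * η * β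
  have m10 : α * η * (μ : EM) = α * η - α * η * (β * t * α) := by
    rw [eμ]
    linear_combination (norm := noncomm_ring) -α * ca * b + α * ca * b * σ - α * cb * a + α * cb * a * t -
      α * η * g3 - h.a2 * η * b + h.a2 * η * b * σ - h.a3 * η * a + h.a3 * η * a * t - α * η * h.t1
  obtain ⟨-, h1⟩ := c.phi hμ c1 c2
  have h2 : cj (μ * P.w⁻¹) η = μ * η * μ := by
    rw [cj_mul, cj_of_comm (j := η), cj_apply, Units.inv_eq_of_mul_eq_one_right m0]
    rw [w_inv_val]
    linear_combination (norm := noncomm_ring) (a - 1) * cb + ca * b + b * ca + cb * a + ca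
  have h3 := h1 ▸ conj_mem_conjBy c.mem (μ * P.w⁻¹)
  have h4 : ((μ * P.w⁻¹ * qu η c.hη.sq * (μ * P.w⁻¹)⁻¹ : GLM) : EM) - 1 = μ * η * μ := by
    rw [cj_coe, qu_val, add_sub_cancel_left, h2]
  generalize μ * P.w⁻¹ * qu η c.hη.sq * (μ * P.w⁻¹)⁻¹ = x at h3 h4
  have h5 : ((x : EM) - 1) * ((x : EM) - 1) = 0 := by rw [h4, ← h2, ← map_mul, c.hη.sq, map_zero]
  have h6 := fun j => comm_of_norm (j := j) P.h2 P.ma h5 (by rw [qu_sub]; exact c.nA _ h3)
  have h7 := comm_of_norm P.h2 P.mb h5 (by rw [qu_sub]; exact c.nB _ h3) P.mb.mem_eS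
  obtain ⟨𝒜, h8, h9⟩ := exists_nilAlg c.uQ
  have hζ := h9 _ (add_mem (h8 _ c.mem) (h8 _ h3))
  rw [h4] at h6 h7 hζ
  rw [qu_val, add_sub_cancel_left] at hζ
  have z1 : (η + μ * η * μ) * (a * b) = η * a * b + σ * η * t := by
    linear_combination (norm := noncomm_ring) μ * b * ca * t + μ * cb * a * t - μ * η * g3 + μ * η * m1 + m2 * η * t
  have z2 : (η + μ * η * μ) * (a * b) = a * b * (η + μ * η * μ) := by
    linear_combination (norm := noncomm_ring) (ca + h6 a P.ma.mem_eS) * b + a * (cb + h7)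
  have z3 : (η + μ * η * μ) * t = t * (η + μ * η * μ) := by
    linear_combination (norm := noncomm_ring) b * ca * μ + μ * ca * b + cb * a * μ + μ * a * cb + m1 * η - η * m4 +
      μ * η * m7 - m8 * η * μ
  have z4 : α * (η + μ * η * μ) * β = 2 * (α * η * β) := by
    linear_combination (norm := noncomm_ring) m5 * η * μ * β - α * η * m6
  have z5 : (η + μ * η * μ) * (β * t * α) = β * t * α * (η + μ * η * μ) := by
    linear_combination (norm := noncomm_ring) β * t * m10 - β * t * m5 * η * μ + μ * η * m6 * t * α - m9 * t * α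
  have hΘ2 := add_mem hΘ hΘ
  have z6 := (add_mul _ _ _).trans ((congrArg₂ (· + ·) (c.ca hΘ2) (h6 _ hΘ2)).trans (mul_add _ _ _).symm)
  generalize η + μ * η * μ = ζ at hζ z1 z2 z3 z4 z5 z6
  have z7 : (η * σ + σ * η - α * η * β + (η * σ + σ * η - α * η * β)) * t = 2 * (ζ * (a * b)) - α * (ζ * β * t) := by
    linear_combination (norm := noncomm_ring) 2 * η * g1 - 2 * z1 + z4 * t
  refine two_cancel P.h2 (eS_nil P hΘ2 g1 g3 ?_)
  have hl := P.l hΘ2
  generalize η * σ + σ * η - α * η * β + (η * σ + σ * η - α * η * β) = Θ at z6 z7 hl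
  have z8 : Commute (2 * (ζ * (a * b))) (Θ * t) := (Commute.ofNat_left 2 _).mul_left (by
    rw [Commute, SemiconjBy]
    linear_combination (norm := noncomm_ring) -Θ * ζ * g4 + ζ * hl * t + Θ * z3 * a * b + z6 * t)
  rw [z7]
  refine Commute.isNilpotent_sub ?_ ((Commute.ofNat_left 2 _).isNilpotent_mul_left
    (Commute.isNilpotent_mul_right z2 hζ)) (nil_swap ?_)
  · rw [show α * (ζ * β * t) = 2 * (ζ * (a * b)) - Θ * t by rw [z7, sub_sub_cancel]]
    exact (Commute.refl _).sub_right z8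
  · simpa only [mul_assoc] using Commute.isNilpotent_mul_right z5 hζ

theorem singular {σ : EM} (h : V K a b α β σ) (hs : σ + σ = α * β) (h0 : σ * b * σ = 0) :
    η * σ + σ * η - α * η * β = 0 := by
  have P := c.P
  have e : α * β - σ = σ := by rw [← hs, add_sub_cancel_right]
  have hΘ := c.th_mem h
  rw [e] at hΘ
  have e1 := P.e1
  have e2 := P.e2
  obtain ⟨μ, hμ, t, t', c1, c2, eμ, g1, -, -, g4, g5, -, g7, -⟩ := exists_mu P c.hK c.h1 c.h2
    (h.add P c.h1 P.ma.mem_eS) (fun e => P.ma.ne (by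
      linear_combination (norm := noncomm_ring) -e1 + h.t1 - h.t2 + h0 - a * b * hs - σ * b * hs - e))
    fun e => P.ma.ne (by
      linear_combination (norm := noncomm_ring) -e1 - h.t1 + h.t2 + h0 - hs * b * a - hs * b * σ - e)
  obtain rfl : t' = b - b * σ * b := by
    linear_combination (norm := noncomm_ring) e2 - b * σ * e2 + b * g1 - b * σ * b * g1 - g7 + b * h.t2 * t' +
      b * h0 * t'
  obtain rfl : t = -b - b * σ * b := by
    linear_combination (norm := noncomm_ring) -e2 - b * σ * e2 - b * g4 - b * σ * b * g4 - g5 - b * h.t2 * t +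
      b * h0 * t - b * hs * t - b * σ * b * hs * t
  have ca := c.ca P.ma.mem_eS
  have cb := c.cb P.mb.mem_eS
  have R := And.intro (And.intro (psm P) h.sm) (And.intro (h.cr h.toBl) (And.intro (ra hs.symm) (ra3 h0)))
  obtain ⟨h1, h2⟩ := c.phi hμ c1 c2
  have h3 : ((μ * P.w⁻¹ : GLM) : EM) = 1 + (σ * b + b * σ - β * b * α + β * b * σ * b * α) := by
    simp only [Units.val_mul, w_inv_val, eμ, nf, R]; abel
  have h4 : (((μ * P.w⁻¹)⁻¹ : GLM) : EM) = 1 - σ * b - b * σ + β * b * α + β * b * σ * b * α :=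
    Units.inv_eq_of_mul_eq_one_right (by simp only [h3, nf, R]; abel)
  generalize μ * P.w⁻¹ = φ at h1 h2 h3 h4
  have hΘ2 := add_mem hΘ hΘ
  have q1 : ∀ j ∈ eS G a, σ * b * j = j * (b * σ) := fun j hj => by
    have h5 : Bl a b 0 0 j := ⟨by simp, by simp, by simp, by simp, by simp, by simp, by simp, by simp, P.l hj,
      P.r hj, eS_mul P.ma.mem_eS hj, eS_mul hj P.ma.mem_eS⟩
    refine comm_of_lr P.h2 P.ma (by simp only [nf, R]) (by simp only [nf, R]) hj ?_ ?_
    · convert cj_mem_of_norm h1 hj using 1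
      simp only [cj_apply, h3, h4, nf, h.cr h5, h5.cr h.toBl]
    · convert cj_mem_of_norm (conjBy_inv_of_eq h1) hj using 1
      simp only [cj_apply, inv_inv, h3, h4, nf, h.cr h5, h5.cr h.toBl]
  have p0 : (φ : EM) - 1 = σ * b + b * σ - β * b * α + β * b * σ * b * α := by rw [h3, add_sub_cancel_left]
  obtain ⟨𝒜, h8, h9⟩ := exists_nilAlg (unip_sup_of_norm c.uQ (unip_zpowers (g := φ) ⟨3, by
    simp only [p0, pow_three, nf, R]⟩) fun x hx => conjBy_eq_self_iff.2 (zpowers_le.2 (conjBy_eq_self_iff.1 h2) hx))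
  have a1 := h8 _ (mem_sup_left c.mem)
  have a2 := h8 _ (mem_sup_right (mem_zpowers φ))
  rw [qu_val, add_sub_cancel_left] at a1
  have p1 : ((φ : EM) - 1) * (a * b) = σ * b := by simp only [p0, nf, R]
  have p2 : a * b * ((φ : EM) - 1) = σ * b := by rw [p0]; simp only [nf, R]
  have p3 : ((φ : EM) - 1) * (b * a) = b * σ := by simp only [p0, nf, R]
  have p4 : b * a * ((φ : EM) - 1) = b * σ := by rw [p0]; simp only [nf, R]
  have p5 : (((φ : EM) - 1) * ((φ : EM) - 1) - (((φ : EM) - 1) + ((φ : EM) - 1))) * (1 - a * b - b * a) =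
      2 * (β * b * α) := by rw [p0]; simp only [nf, R]; abel
  generalize (φ : EM) - 1 = ψ at a2 p1 p2 p3 p4 p5
  have n1 := Commute.isNilpotent_mul_right (y := a * b) (by
    rw [Commute, SemiconjBy]
    linear_combination (norm := noncomm_ring) ca * b * ψ + ψ * ca * b + a * cb * ψ + ψ * a * cb + p1 * η + η * p1 -
      p2 * η - η * p2) (h9 _ (add_mem (mul_mem a1 a2) (mul_mem a2 a1)))
  rw [show (η * ψ + ψ * η) * (a * b) = η * σ * b + σ * b * η by
    linear_combination (norm := noncomm_ring) ψ * ca * b + ψ * a * cb + p1 * η + η * p1] at n1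
  have p6 : Commute ψ (1 - a * b - b * a) := by
    rw [Commute, SemiconjBy]; linear_combination (norm := noncomm_ring) -p1 + p2 - p3 + p4
  have p7 : Commute η (1 - a * b - b * a) := by
    rw [Commute, SemiconjBy]; linear_combination (norm := noncomm_ring) -ca * b - b * ca - cb * a - a * cb
  have n2 := Commute.isNilpotent_mul_right (p7.mul_left ((p6.mul_left p6).sub_left (p6.add_left p6)))
    (h9 _ (mul_mem a1 (sub_mem (mul_mem a2 a2) (add_mem a2 a2))))
  rw [mul_assoc, p5, show η * (2 * (β * b * α)) = 2 * η * β * b * α by noncomm_ring] at n2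
  have z7 : (η * σ + σ * η - α * η * β + (η * σ + σ * η - α * η * β)) * b =
      2 * (η * σ * b + σ * b * η) - α * (2 * η * β * b) := by
    linear_combination (norm := noncomm_ring) 2 * σ * cb
  refine two_cancel P.h2 (eS_nil P hΘ2 rfl e2 ?_)
  have q1 := q1 _ hΘ2
  have q2 := c.ca hΘ2
  generalize η * σ + σ * η - α * η * β + (η * σ + σ * η - α * η * β) = Θ at q1 q2 z7
  have z8 : Commute (2 * (η * σ * b + σ * b * η)) (Θ * b) := (Commute.ofNat_left 2 _).mul_left (by
    rw [Commute, SemiconjBy]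
    linear_combination (norm := noncomm_ring) Θ * cb * σ * b + Θ * b * σ * cb + q1 * η * b + η * q1 * b +
      q2 * b * σ * b + σ * b * q2 * b)
  rw [z7]
  refine Commute.isNilpotent_sub ?_ ((Commute.ofNat_left 2 _).isNilpotent_mul_left n1) (nil_swap n2)
  rw [show α * (2 * η * β * b) = 2 * (η * σ * b + σ * b * η) - Θ * b by rw [z7, sub_sub_cancel]]
  exact (Commute.refl _).sub_right z8

theorem theta (h : V K a b α β τ) : η * τ + (α * β - τ) * η = α * η * β ∧
    η * (α * β) + α * β * η = 2 * (α * η * β) := by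
  obtain ⟨σ, h1, h2, h3⟩ := h.half c.P c.hK c.h1
  have h4 := (em _).elim (c.singular h1 h2) (c.generic h1 h2)
  exact ⟨by linear_combination (norm := noncomm_ring) h4 + c.ca h3 - h2 * η,
    by linear_combination (norm := noncomm_ring) 2 * h4 - h2 * η - η * h2⟩

end Cx

end CfsgLib.EqK
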