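import Mathlib
import Cfsg.Agent.Lib.EqK.Mu
import Cfsg.Agent.Lib.Coprime.Abelian

/-! Root elements in the centre of a unipotent radical, and quadratic elements centralizing a component. -/

set_option autoImplicit false

namespace CfsgLib.EqK

open Cfsg CfsgLib.RootSub CfsgLib.EqZJ Subgroup
open scoped commutatorElement

variable {p : ℕ} [hp : Fact p.Prime] {M : Type*} [AddCommGroup M] [Module (ZMod p) M] [FiniteDimensional (ZMod p) M]

local notation "GLM" => LinearMap.GeneralLinearGroup (ZMod p) M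
local notation "EM" => M →ₗ[ZMod p] M

variable {G K Q : Subgroup (LinearMap.GeneralLinearGroup (ZMod p) M)}
  {a b d j y η α β τ α' β' τ' : M →ₗ[ZMod p] M}

omit [FiniteDimensional (ZMod p) M] in
theorem Bl.cent (h : Bl a b α β τ) (h' : Bl a b α' β' τ') (e : α * β' = α' * β) :
    (1 + α' + β' + τ') * (α + β + τ) = (α + β + τ) * (1 + α' + β' + τ') := by
  simp only [nf, h.cr h', h'.cr h, e]; abel

omit [FiniteDimensional (ZMod p) M] in
theorem Bl.lr (h : Bl a b α β τ) {u v : EM} (ua : u * a = a * u) (ub : u * b = b * u) (va : v * a = a * v)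
    (vb : v * b = b * v) : Bl a b (u * α * v) (u * β * v) (u * τ * v) := by
  have l : ∀ {c x : EM}, u * c = c * u → c * x = 0 → c * (u * x * v) = 0 := fun e e' => by
    rw [← mul_assoc, ← mul_assoc, ← e, mul_assoc u, e']; simp
  have r : ∀ {c x : EM}, v * c = c * v → x * c = 0 → u * x * v * c = 0 := fun e e' => by
    rw [mul_assoc, e, ← mul_assoc, mul_assoc u, e']; simp
  have l' : ∀ {x : EM}, a * b * x = x → a * b * (u * x * v) = u * x * v := fun e => by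
    linear_combination (norm := noncomm_ring) u * e * v - a * ub * _ * v - ua * b * _ * v
  have r' : ∀ {x : EM}, x * b * a = x → u * x * v * b * a = u * x * v := fun e => by
    linear_combination (norm := noncomm_ring) u * e * v + u * _ * vb * a + u * _ * b * va
  exact ⟨l' h.a1, r va h.a2, r vb h.a3, l ua h.a4, r' h.b1, l ua h.b2, l ub h.b3, r va h.b4, l' h.t1, r' h.t2,
    l ua h.t3, r va h.t4⟩

omit [FiniteDimensional (ZMod p) M] in
theorem Bl.sub (h : Bl a b α β τ) (h' : Bl a b α' β' τ') : Bl a b (α - α') (β - β') (τ - τ') := by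
  constructor <;> simp only [nf, h.sm, h'.sm]

omit [FiniteDimensional (ZMod p) M] in
theorem Bl.eq_zero (h : Bl a b α β τ) (e : α + β + τ = 0) : α = 0 ∧ β = 0 :=
  ⟨by linear_combination (norm := noncomm_ring) e - e * b * a + h.a3 * a + h.b1 + h.t2,
    by linear_combination (norm := noncomm_ring) e - a * b * e + h.a1 + a * h.b3 + h.t1⟩

omit [FiniteDimensional (ZMod p) M] in
theorem tau_mem (P : PP G a b) (h : Bl a b α β τ) (hy : QF G (α + β + τ)) : α * β = 0 ∧ τ ∈ eS G a := by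
  have h1 : α * β = 0 := by simpa only [nf, h.cr h] using hy.sq
  have h2 := V.j_mem ⟨h, by simpa only [add_assoc] using hy.one_add⟩ P le_rfl
  rw [h1, sub_zero, ← two_smul (ZMod p)] at h2
  exact ⟨h1, inv_smul_smul₀ P.h2 τ ▸ (eS G a).smul_mem _ h2⟩

omit [FiniteDimensional (ZMod p) M] in
theorem exists_bl' (P : PP G a b) {h : y * y = 0} (hy : qu y h ∈ UU a) : ∃ α β τ, Bl a b α β τ ∧ y = α + β + τ := by
  simpa only [qu_val, add_sub_cancel_left] using exists_bl P hy.1 hy.2.1 (UU_mid P hy)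

omit [FiniteDimensional (ZMod p) M] in
theorem cj_w_eq (P : PP G a b) (h : Bl a b α β τ) : cj P.w (α + β) = β * b - b * α := by
  simp only [cj_apply, w_val, w_inv_val, nf, h.sm]; abel

theorem mn_deg1 (P : PP G a b) (h : Bl a b α β τ) (hy : Mn G (α + β + τ)) (h0 : α + β ≠ 0) : Mn G (α + β) := by
  obtain ⟨h1, h2⟩ := tau_mem P h hy.toQF
  by_cases h3 : τ = 0
  · simpa only [h3, add_zero] using hy
  obtain ⟨b', P', h4, h5⟩ := P.part h2 h3
  have hb : b' ∈ eS G b := h5 ▸ P'.mb.mem_eS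
  have e1 := partner_mul P P' (h4 ▸ P.ma.mem_eS) hb
  have e2 := partner_mul P.symm P'.symm (h5 ▸ P.mb.mem_eS) h2
  have h' : Bl τ b' α β τ := ⟨e1 ▸ h.a1, h.at' h, eS_mul_left hb h.a3, h.ta h, by rw [mul_assoc, e2, ← mul_assoc, h.b1],
    h.tb h, eS_mul_right hb h.b3, h.bt h, P'.e1, P'.e1, h.tt h, h.tt h⟩
  have hu : QF G (α + β) := by
    simpa using hy.add (eS_qf h2).neg (by simp only [nf, h.cr h]) (by simp only [nf, h.cr h])
  have h6 := sub_mem (dyd P.h2 P.h3 hy P'.mb.toQF) hy.mem_eS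
  rw [show (α + β + τ) * b' * (α + β + τ) - (α + β + τ) = β * b' * α by simp only [nf, h'.sm]; abel] at h6
  have h7 : β * b' * α = 0 := by_contra fun h7 => h3 (by
    have := eS_mul_right (hy.eS_eq h6 h7 ▸ hy.mem_eS) (x := b' * τ) (by simp only [nf, h'.sm])
    have := congrArg (τ * b' * ·) this
    simpa only [nf, h'.sm] using this)
  have h8 : b' * (α + β) - (α + β) * b' = -cj P'.w (α + β) := by rw [cj_w_eq P' h']; simp only [nf, h'.sm]; abel
  have h9 := P'.mb.of_le (qf_comm P'.mb.toQF hu (by simp only [nf, h'.sm]) (by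
    simpa only [nf, h'.sm] using h7)) (by rwa [h8, neg_ne_zero, map_ne_zero_iff _ (cj _).injective]) (rk_sub_le (by simpa only [nf, h'.sm] using h7))
  have h10 := (h9.of_eS (neg_mem h9.mem_eS) (neg_ne_zero.2 h9.ne)).1.cj (inv_mem (P'.w_mem EG_le EG_le))
  rwa [h8, neg_neg, cj_inv_cj] at h10

omit [FiniteDimensional (ZMod p) M] in
theorem comm_mem {h : a * a = 0} (ha : qu a h ∈ K) (hd : d * d = 0) (hK : conjBy K (qu d hd) = K)
    (e1 : d * a * d = 0) (e2 : a * d * a = 0) : qu _ (sq_sub hd h e1 e2) ∈ K ⊓ UU a := by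
  refine ⟨?_, ?_, ?_, fun y z hy hz => ?_⟩
  · rw [← comm_qu hd h e1 e2]
    exact K.mul_mem (hK ▸ conj_mem_conjBy ha _) (K.inv_mem ha)
  all_goals rw [qu_val, add_sub_cancel_left]
  · rw [mul_sub, ← mul_assoc, ← mul_assoc, e2, h]; simp
  · rw [sub_mul, mul_assoc d, e2, h]; simp
  · linear_combination (norm := noncomm_ring) y * d * hz - hy * d * z

theorem lemZ (hG : NU G) (P : PP G a b) (h1 : EG G a ≤ K) (hK : ∀ d (hd : Mn G d), conjBy K (qu d hd.sq) = K)
    (hy : Mn G y) (hU : qu y hy.sq ∈ UU a) (hc : ∀ g ∈ K ⊓ UU a, (g : EM) * y = y * g) : y ∈ eS G a := by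
  obtain ⟨α, β, τ, h, rfl⟩ := exists_bl' P hU
  obtain ⟨-, h2⟩ := tau_mem P h hy.toQF
  by_cases h0 : α + β = 0
  · rwa [h0, zero_add]
  have hu := mn_deg1 P h hy h0
  have hu' := hu.cj (P.w_mem EG_le EG_le)
  rw [cj_w_eq P h] at hu'
  have e : (β * b - b * α) * a - a * (β * b - b * α) = α + β := by simp only [nf, h.sm]; abel
  have hn := (opp_or_np P.h2 P.h3 P.ma hu').resolve_left fun ho => ho.ne P.ma.ne (by simp only [nf, h.sm])
  generalize β * b - b * α = u' at hu' e hn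
  have hne : u' * a - a * u' ≠ 0 := e ▸ h0
  have h3 : qu a P.ma.sq ∈ UU (α + β) := by
    refine ⟨by simp only [qu_val, add_sub_cancel_left, nf, h.sm], by simp only [qu_val, add_sub_cancel_left, nf, h.sm],
      fun y z hy hz => LinearMap.ext fun v => ?_⟩
    have h4 := (mem_st3 (hn.le_st3 P.ma hu' (by rwa [← neg_sub, neg_ne_zero]) (qu_mem_EG P.ma.mem_eS))).2.1 (z v) (by
      rw [← neg_sub, e, LinearMap.ker_neg]; exact LinearMap.congr_fun hz v)
    rw [← neg_sub, e, LinearMap.range_neg] at h4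
    exact range_le_ker_of_mul hy h4
  obtain ⟨d, hd, ho⟩ := hG.exists_opp P.h2 P.h3 hu
  obtain ⟨q, h4, h5, e1, e2⟩ := ho.symm.partner P.h2 P.h3 hd hu hu.mem_eS hu.ne
  have P' : PP G (α + β) q := ⟨P.h2, P.h3, hu, (hd.of_eS h4 h5).1, e2, e1⟩
  obtain ⟨α₁, β₁, τ₁, h', ea⟩ := exists_bl' P' h3
  obtain ⟨u'', h6, e3⟩ := hn.symm.surj hG P.h2 P.h3 hu' P.ma hne P.ma.mem_eS P.ma.ne
    (e ▸ (tau_mem P' h' (ea ▸ P.ma.toQF)).2)
  have P'' := P'.cj (eS_qf h6).qu_mem
  rw [cj_of_comm (j := α + β) (by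
    have := comm_EG_iff.1 (hn.symm.comm_left hu' P.ma) _ (e ▸ hu.mem_eS) _ h6
    rw [e] at this
    rw [qu_val, add_mul 1, mul_add _ 1, this, one_mul, mul_one])] at P''
  have h7 : cj (qu u'' (eS_qf h6).sq) q * a * cj (qu u'' (eS_qf h6).sq) q = 0 := by
    have h8 : cj (qu u'' (eS_qf h6).sq)⁻¹ a = α₁ + β₁ := by
      rw [cj_apply, inv_inv, qu_val, qu_inv_val]
      linear_combination (norm := noncomm_ring) ea + e3 - hn.2 _ h6 _ P.ma.mem_eS _ h6
    rw [← cj_cj_inv (qu u'' (eS_qf h6).sq) a, ← map_mul, ← map_mul, h8]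
    simp only [nf, h'.sm, map_zero]
  generalize cj (qu u'' (eS_qf h6).sq) q = r at P'' h7
  have h8 := ((opp_or_np P.h2 P.h3 P''.mb P.ma).resolve_left fun ho => ho.ne P''.mb.ne h7).2 _ P.ma.mem_eS _
    P''.mb.mem_eS _ P.ma.mem_eS
  have h9 := comm_mem (h1 (qu_mem_EG P.ma.mem_eS)) P''.mb.sq (hK _ P''.mb) h7 h8
  have h10 := hc _ h9
  have h11 := UU_comm h9.2 h2
  have h12 := UU_mid P'' h3
  rw [qu_val] at h10 h11
  rw [qu_val, add_sub_cancel_left] at h12
  refine absurd ?_ P.ma.ne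
  linear_combination (norm := noncomm_ring) h12 - h10 + h11 - (α + β) * h7 * (α + β) + r * (h.a4 + h.b2) +
    (h.a2 + h.b4) * r

namespace Cx

variable (c : Cx G K Q a b η)
include c

theorem opp (hd : Mn G d) (ho : Opp a d) (h : EG G d ≤ K) : d * η * d = 0 := by
  obtain ⟨m, hm, e⟩ := opp_conj c.P hd ho c.hK c.h1 c.h2 h
  obtain ⟨α, β, τ, h1, e1⟩ := exists_V c.P hm
  have h2 := cj_mem_of_norm (conjBy_eq_iff.1 e).symm hd.mem_eS
  have h3 := c.blk h1.toBl
  rw [(c.theta h1).1, sub_self, ← Units.inv_eq_of_mul_eq_one_right (u := m) (e1 ▸ h1.mul_inv :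
    (m : EM) * (1 + -α + -β + (α * β - τ)) = 1), ← e1] at h3
  rw [← cj_cj_inv m d, ← cj_cj_inv m η, ← map_mul, ← map_mul, map_eq_zero_iff _ (cj _).injective, cj_apply _ η, inv_inv]
  generalize cj m⁻¹ d = b' at h2
  generalize ((m⁻¹ : GLM) : EM) * η * m = y at h3
  linear_combination (norm := noncomm_ring) b' * h3 * b' - c.P.symm.r h2 * y * b * a * b' - b' * y * c.P.symm.l h2

theorem polar (h : V K a b α β τ) (h' : V K a b α' β' τ') : (η * α - α * η) * β' = α' * (η * β - β * η) := by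
  have h1 := c.ca (sub_mem (sub_mem ((h.mul h').j_mem c.P c.hK) (h.j_mem c.P c.hK)) (h'.j_mem c.P c.hK))
  refine sub_eq_zero.1 (two_cancel c.P.h2 ?_)
  linear_combination (norm := noncomm_ring) (c.theta (h.mul h')).2 - (c.theta h).2 - (c.theta h').2 + h1

theorem polar' (h : V K a b α β τ) (h' : V K a b α' β' τ') : η * α * η * β' = α' * (η * β * η) := by
  have h1 := c.polar (h.cj c.nK (cj_of_comm (by
    rw [qu_val, add_mul, mul_add, c.ca c.P.ma.mem_eS, one_mul, mul_one])) (cj_of_comm (by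
    rw [qu_val, add_mul, mul_add, c.cb c.P.mb.mem_eS, one_mul, mul_one]))) h'
  simp only [cj_qu] at h1
  have e := c.hη.sq
  refine sub_eq_zero.1 (two_cancel c.P.h2 ?_)
  linear_combination (norm := noncomm_ring) c.polar h h' - h1 + e * α * (1 - η) * β' + (1 + η) * α * e * β' -
    α' * e * β * (1 - η) - α' * (1 + η) * β * e

theorem unip : IsUnipotentOn (UU a ⊔ Q) := unip_sup_of_norm unip_UU c.uQ fun x hx => norm_UU c.P.ma (c.nA x hx)

theorem norm_case (hd : Mn G d) (h : qu d hd.sq ∈ K) (hn : conjBy (EG G a) (qu d hd.sq) = EG G a) :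
    d * η * d = 0 := by
  obtain ⟨m, hm, e1, e2⟩ := norm_split c.P c.hK c.h1 c.h2 h hn
  obtain ⟨𝒜, h1, h2⟩ := exists_nilAlg (unip_sup_of_norm c.unip (unip_zpowers (g := qu d hd.sq) ⟨2, by
    simp [sq, hd.sq]⟩) fun x hx => conjBy_eq_self_iff.2 (zpowers_le.2 (conjBy_eq_self_iff.1 (by
      rw [← mul_inv_cancel_left m (qu d hd.sq), ← conjBy_conjBy, conjBy_sup, norm_UU c.P.ma e1,
        c.nQ _ (mul_mem (inv_mem hm.1) h) e1 e2, conjBy_of_mem (mem_sup_left hm.2)])) hx))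
  simpa using nilp_of_nil c.P.h2 hd c.hη (h2 _ (by
    simpa using mul_mem (h1 _ (mem_sup_right (mem_zpowers _))) (h1 _ (mem_sup_left (mem_sup_right c.mem)))))

theorem root_comm (hG : NU G) (hK : ∀ d (hd : Mn G d), conjBy K (qu d hd.sq) = K) (hy : Mn G y)
    (hU : qu y hy.sq ∈ K ⊓ UU a) : η * y = y * η := by
  have P := c.P
  have ca := c.ca P.ma.mem_eS
  have cb := c.cb P.mb.mem_eS
  have h0 := c.norm_case hy hU.1 (UU_norm hU.2)
  obtain ⟨α, β, τ, h, e⟩ := exists_V P hU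
  have ey : y = α + β + τ := by rw [qu_val, add_assoc, add_assoc, add_right_inj, ← add_assoc] at e; exact e
  have key : ∀ {α₀ β₀ τ₀ : EM}, Bl a b α₀ β₀ τ₀ → QF G (α₀ + β₀ + τ₀) → rk (α₀ + β₀ + τ₀) ≤ rk y →
      (∀ {α' β' τ'}, V K a b α' β' τ' → α₀ * β' = α' * β₀) → α₀ + β₀ + τ₀ ∈ eS G a := by
    intro α₀ β₀ τ₀ h1 h2 h3 h4
    by_cases h5 : α₀ + β₀ + τ₀ = 0
    · exact h5 ▸ zero_mem _
    refine lemZ hG P c.h1 hK (hy.of_le h2 h5 h3) (h1.mem_UU (by rw [qu_val, ← add_assoc, ← add_assoc])) fun g hg => ?_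
    obtain ⟨α', β', τ', h', e'⟩ := exists_V P hg
    exact e' ▸ h1.cent h'.toBl (h4 h')
  have e1 : (η * y + y * η) * y = 0 := by rw [gam_mul' hy.sq, h0]
  have h1 := nil_odd' P.h2 c.hη hy.toQF (j := 1) (by
    rw [pow_succ, pow_one, mul_assoc, gam_mul c.hη.sq, ← mul_assoc, ← mul_assoc,
      gam_comm c.hη.sq hy.sq, mul_assoc η, e1]
    simp) (by rw [pow_succ, mul_assoc, e1, mul_zero]) (by
    rw [pow_one, mul_sub, ← mul_assoc, ← mul_assoc, e1, gam_mul c.hη.sq, mul_assoc, mul_assoc, ← mul_assoc y, h0]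
    simp)
  rw [pow_one, gam_mul c.hη.sq] at h1
  have e2 : η * y * η = η * α * η + η * β * η + η * τ * η := by rw [ey]; noncomm_ring
  have h2 := e2 ▸ key (h.lr ca cb ca cb) (e2 ▸ h1) (e2 ▸ (rk_mul_le_left _ _).trans (rk_mul_le_right _ _))
    fun h' => c.polar' h h'
  have h3 : η * y * η = 0 := by_contra fun h3 => h3 (by
    have := eS_mul_left (P.ma.eS_eq h2 h3 ▸ P.ma.mem_eS) (x := η) (by
      rw [← mul_assoc, ← mul_assoc, c.hη.sq, zero_mul, zero_mul])
    linear_combination (norm := noncomm_ring) -P.l h2 - a * cb * y * η - ca * b * y * η + this * b * y * η)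
  have e3 : y * η - η * y = 1 * α * η - η * α * 1 + (1 * β * η - η * β * 1) + (1 * τ * η - η * τ * 1) := by
    rw [ey]; noncomm_ring
  have h4 := (h.lr (u := 1) (by simp) (by simp) ca cb).sub (h.lr (v := 1) ca cb (by simp) (by simp))
  have h5 := key h4 (e3 ▸ qf_comm hy.toQF c.hη h0 h3) (e3 ▸ rk_sub_le (by rwa [← mul_assoc])) fun h' => by
    linear_combination (norm := noncomm_ring) -c.polar h h'
  have h6 := P.l h5
  have h7 := P.r h5
  rw [mul_add, mul_add, h4.a1, h4.t1, mul_assoc a, h4.b3] at h6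
  rw [add_mul, add_mul, add_mul, add_mul, h4.b1, h4.t2, h4.a3] at h7
  linear_combination (norm := noncomm_ring) -e3 + h6 + h7 + c.ca (tau_mem P h.toBl (ey ▸ hy.toQF)).2

theorem all (hG : NU G) (hK : ∀ d (hd : Mn G d), conjBy K (qu d hd.sq) = K) (hd : Mn G d) (h : EG G d ≤ K) :
    d * η * d = 0 := by
  have P := c.P
  rcases pair_cases hG P.h2 P.h3 P.ma hd with ho | ⟨hn, hc | ⟨h0, h1, -⟩⟩
  · exact c.opp hd ho h
  · exact c.norm_case hd (h (qu_mem_EG hd.mem_eS)) (hc.symm.conjBy_eq (qu_mem_EG hd.mem_eS))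
  have e1 := hn.2 _ hd.mem_eS _ P.ma.mem_eS _ hd.mem_eS
  have h2 := hn.symm.mn hd P.ma (by rwa [← neg_sub, neg_ne_zero])
  have h3 := c.root_comm hG hK h2 (comm_mem (c.h1 (qu_mem_EG P.ma.mem_eS)) hd.sq (hK _ hd) e1
    (hn.1 _ P.ma.mem_eS _ hd.mem_eS _ P.ma.mem_eS))
  have ca := c.ca P.ma.mem_eS
  by_contra h4
  refine hn.ne_of_eS P.ma hd h0 P.ma.mem_eS P.ma.ne (dyd P.h2 P.h3 hd c.hη) h4 ?_
  linear_combination (norm := noncomm_ring) h3 * d - d * ca * d - η * e1 + η * a * hd.sq - d * h3 + e1 * η -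
    hd.sq * a * η

end Cx

local notation "Sg" => quadraticRootSubgroups

theorem norm_cmpG (hG : NU G) (h2 : (2 : ZMod p) ≠ 0) (h3 : Nat.card (ZMod p) ≠ 3) {A : Subgroup GLM} {g : GLM}
    (hg : g ∈ (⨆ B ∈ Sg G, B : Subgroup GLM)) : conjBy (cmpG (Sg G) A) g = cmpG (Sg G) A :=
  conjBy_gen_of (fun _ h _ => (hG.rs h2 h3).cmp_conj (fun _ => hG.ni h2 h3) h) hg

theorem cmpG_le' {A : Subgroup GLM} : cmpG (Sg G) A ≤ G := iSup₂_le fun _ hB => Sig_le hB.1

theorem mem_cmp_opp (P : PP G a b) : EG G b ∈ cmp (Sg G) (EG G a) :=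
  cmp_r1 (mem_cmp_self P.ma.mem_Sig) P.mb.mem_Sig (P.opp.r1 P.h2 P.h3 P.ma P.mb)

theorem cmpG_le_of (hG : NU G) (P : PP G a b) {X : Subgroup GLM} (hU : cmpG (Sg G) (EG G a) ⊓ UU a ≤ X)
    (hw : P.w ∈ X) : cmpG (Sg G) (EG G a) ≤ X := by
  have h1 : EG G a ≤ cmpG (Sg G) (EG G a) := le_gen (mem_cmp_self P.ma.mem_Sig)
  have h2 : EG G b ≤ cmpG (Sg G) (EG G a) := le_gen (mem_cmp_opp P)
  have key : ∀ D, Rch (Sg G) (EG G a) D → ∃ g ∈ cmpG (Sg G) (EG G a) ⊓ X, D = conjBy (EG G a) g := fun D h => by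
    induction h with
    | refl => exact ⟨1, one_mem _, (conjBy_one _).symm⟩
    | tail h0 h ih =>
      obtain ⟨g, hg, rfl⟩ := ih
      have h3 := r1_conj h.2.2 g⁻¹
      rw [conjBy_inv_conjBy] at h3
      obtain ⟨d, hd, e⟩ := mem_Sig.1 (conj_Sig h.2.1 (inv_mem (cmpG_le' hg.1)))
      obtain ⟨m, hm, e'⟩ := opp_conj P hd (opp_of_r1 hG P.h2 P.h3 P.ma hd (e ▸ h3)) cmpG_le' h1 h2
        (e ▸ conjBy_le_of_mem (le_gen (S := cmp (Sg G) (EG G a)) ⟨h.2.1, h0.tail h⟩) (inv_mem hg.1))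
      refine ⟨g * (m * P.w), mul_mem hg (mul_mem ⟨hm.1, hU hm⟩ ⟨P.w_mem h1 h2, hw⟩), ?_⟩
      rw [← conjBy_conjBy, ← conjBy_conjBy, conjBy_w', e', ← e, conjBy_conjBy_inv]
  refine iSup₂_le fun D hD => ?_
  obtain ⟨g, hg, rfl⟩ := key D hD.2
  exact conjBy_le_of_mem ((le_inf h1 (EG_le_UU P.ma.sq)).trans hU) hg.2

omit [FiniteDimensional (ZMod p) M] in
theorem pgroup_EG (h2 : (2 : ZMod p) ≠ 0) (hd : d * d = 0) : IsPGroup p (EG G d) := (pgroup_UU h2).to_le (EG_le_UU hd)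

theorem fix_eq [Finite GLM] (hG : NU G) (P : PP G a b) {D : Subgroup GLM} (hD : D ∈ cmp (Sg G) (EG G a))
    (h : ∀ g ∈ cmpG (Sg G) (EG G a) ⊓ UU a, conjBy D g = D) : D = EG G a := by
  have hKn := fun g => norm_cmpG (A := EG G a) (g := g) hG P.h2 P.h3
  have hX : NU (cmpG (Sg G) (EG G a)) :=
    (hG.of_normal (iSup₂_le fun _ => Sig_le) fun g => conjBy_gen_of fun _ h _ => conj_Sig h).of_normal cmpG_le hKn
  have h1 : EG G a ≤ cmpG (Sg G) (EG G a) := le_gen (mem_cmp_self P.ma.mem_Sig)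
  have h2 : EG G b ≤ cmpG (Sg G) (EG G a) := le_gen (mem_cmp_opp P)
  have h3 := fun X => cmpG_le_of (X := X) hG P
  have h4 : D ≤ cmpG (Sg G) (EG G a) := le_gen hD
  have hK : cmpG (Sg G) (EG G a) ≤ G := cmpG_le'
  obtain ⟨d, hd, rfl⟩ := mem_Sig.1 hD.1
  generalize cmpG (Sg G) (EG G a) = K at *
  obtain ⟨⟨g, hg, hg'⟩, h5⟩ := ne_bot_iff_exists_ne_one.1 (Coprime.inf_centralizer_ne_bot_of_isPGroup
    ((pgroup_UU P.h2).to_le (inf_le_right : K ⊓ UU a ≤ _)) _ (pgroup_EG P.h2 hd.sq)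
    (fun g hg => conjBy_eq_self_iff.1 (h g hg)) hd.EG_ne_bot)
  have hA : EG G a ≤ K ⊓ UU a := le_inf h1 (EG_le_UU P.ma.sq)
  obtain ⟨m, hm, -, e2⟩ := norm_split P hK h1 h2 (h4 hg) (conjBy_of_comm fun x hx => (hg' x (hA hx)).symm)
  have h6 : ∀ j ∈ eS G a, ((m⁻¹ * g : GLM) : EM) * j = j * (m⁻¹ * g : GLM) := fun j hj => by
    have := congrArg Units.val (hg' _ (hA (qu_mem_EG hj)))
    rw [Units.val_mul, Units.val_mul, qu_val, add_mul, mul_add, one_mul, mul_one, add_right_inj] at this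
    rw [Units.val_mul, mul_assoc, ← this, ← mul_assoc, UU_comm (inv_mem hm.2) hj, mul_assoc]
  have h7 := h6 a P.ma.mem_eS
  have h8 := partner_unique P (cj_mem_of_norm e2 P.mb.mem_eS) (by
    conv_lhs => rw [← cj_of_comm h7, ← map_mul, ← map_mul, P.e1, cj_of_comm h7])
  rw [cj_apply, Units.mul_inv_eq_iff_eq_mul] at h8
  have h9 : (m⁻¹ * g) ^ p = 1 := by
    rw [(Commute.inv_left (hg' m hm)).mul_pow, UU_pow P.h2 (inv_mem hm.2), UU_pow P.h2 (EG_le_UU hd.sq hg), one_mul]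
  have h10 : K ≤ centralizer {m⁻¹ * g} := by
    refine h3 _ (fun x hx => mem_centralizer_singleton_iff.2 (Units.ext ?_)) (mem_centralizer_singleton_iff.2
      (Units.ext (by
        rw [Units.val_mul, Units.val_mul _ P.w, w_val]
        linear_combination (norm := noncomm_ring) h7 * b + a * h8 + h8 * a + b * h7 - h7 + h8)))
    obtain ⟨α, β, τ, hV, e⟩ := exists_V P hm
    obtain ⟨α', β', τ', hV', e'⟩ := exists_V P hx
    have h11 : cj (m⁻¹ * g) x = (1 + -α + -β + (α * β - τ)) * (1 + α' + β' + τ') * (1 + α + β + τ) := by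
      rw [cj_mul, cj_of_comm (congrArg Units.val (hg' x hx).symm), cj_apply, inv_inv, e',
        Units.inv_eq_of_mul_eq_one_right (u := m) (e ▸ hV.mul_inv), e]
    rw [hV.inv.mul_eq hV'.toBl, (hV.inv.mul hV'.toBl).mul_eq hV.toBl, e', map_add, map_add, map_add, map_one] at h11
    obtain ⟨h12, h13⟩ := ((hV'.toBl.cj (cj_of_comm h7) (cj_of_comm h8)).sub
      ((hV.inv.mul hV'.toBl).mul hV.toBl)).eq_zero (by linear_combination (norm := noncomm_ring) h11)
    rw [neg_add_cancel_comm, sub_eq_zero] at h12 h13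
    have h14 := cj_of_comm (h6 _ (hV'.j_mem P hK))
    rw [map_sub, map_add, map_mul, h12, h13, sub_left_inj] at h14
    have h15 : cj (m⁻¹ * g) x = x := by
      rw [e', map_add, map_add, map_add, map_one, h12, h13, sub_eq_zero.1 (two_cancel P.h2 (y := cj (m⁻¹ * g) τ' - τ')
        (by linear_combination (norm := noncomm_ring) h14))]
    rw [cj_apply, Units.mul_inv_eq_iff_eq_mul] at h15
    exact h15.symm
  have h11 := hX (zpowers (m⁻¹ * g)) (zpowers_le.2 (mul_mem (inv_mem hm.1) (h4 hg))) (fun x hx =>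
    conjBy_of_comm fun _ ⟨n, hn⟩ => hn ▸ (Commute.zpow_right (mem_centralizer_singleton_iff.1 (h10 hx)) n).eq)
    (unip_of_pgroup (p := p) (IsPGroup.of_card_dvd_pow (n := 1) (by
      rw [Nat.card_zpowers, pow_one]; exact orderOf_dvd_of_pow_eq_one h9)))
  obtain rfl : m = g := inv_mul_eq_one.1 (zpowers_eq_bot.1 h11)
  obtain ⟨y, hy, rfl⟩ := mem_EG'.1 hg
  have h12 : y ≠ 0 := fun e => h5 (Subtype.ext ((qu_eq_one (h := (eS_qf hy).sq)).2 e))
  have h13 := lemZ hG P h1 (fun d hd => hKn _ (le_gen hd.mem_Sig (qu_mem_EG hd.mem_eS))) (hd.of_eS hy h12).1 hm.2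
    fun x hx => by simpa [mul_add, add_mul] using congrArg Units.val (hg' x hx)
  rw [← hd.EG_eq hy h12, P.ma.EG_eq h13 h12]

end CfsgLib.EqK
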