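import Mathlib
import Cfsg.Agent.Lib.EqK.Cent
import Cfsg.Agent.Lib.EqZJ.Fix
import Cfsg.Agent.Lib.Coprime.Action
import Cfsg.Agent.Lib.HH.Reduce
import Cfsg.Agent.Lib.PStab.Stable

/-! Quadratic elements in the intersection of the invariant Sylow subgroups act trivially on irreducible modules. -/

set_option autoImplicit false

namespace CfsgLib.EqK

open Cfsg CfsgLib.RootSub CfsgLib.EqZJ Subgroup
open scoped Pointwise

universe u

/-- `P` is a `p`-subgroup of `N` invariant under the coprime operator group `R` and under `C_N(R)`. -/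
structure St (p : ℕ) {X : Type*} [Group X] (N R P : Subgroup X) : Prop where
  hR : R ≤ normalizer N
  sol : Group.IsSolvable R
  cop : (Nat.card R).Coprime (Nat.card N)
  cp : (Nat.card R).Coprime p
  le : P ≤ N
  pg : IsPGroup p P
  nR : R ≤ normalizer P
  nC : N ⊓ centralizer R ≤ normalizer P

namespace St

variable {p : ℕ} {X : Type*} [Group X] {N R P : Subgroup X} (h : St p N R P)
include h

theorem le_sylow [Fact p.Prime] [Finite X] {S : Subgroup X} (h1 : S ≤ N) (h2 : IsPGroup p S) (h3 : ¬ p ∣ S.relIndex N)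
    (h4 : R ≤ normalizer S) : P ≤ S := by
  obtain ⟨T, e1, e2, e3, e4, e5⟩ := Coprime.exists_invariant_sylow_ge' h.hR h.cop (.inl h.sol) P h.le h.pg h.nR
  obtain ⟨c, hc, rfl⟩ := Coprime.exists_centralizer_smul_sylow_eq' h.hR h.cop (.inl h.sol) e2 e3 e4 e5 h1 h2 h3 h4
  exact (conjBy_eq_self_iff.2 (h.nC hc)).ge.trans (conjBy_le_conjBy_iff.2 e1)

theorem sub {H : Subgroup X} (h1 : H ≤ N) (h2 : R ≤ normalizer H) : St p H R (P ⊓ H) :=
  ⟨h2, h.sol, h.cop.coprime_dvd_right (card_dvd_of_le h1), h.cp, inf_le_right, h.pg.to_inf_left,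
    Coprime.le_normalizer_inf h.nR h2, Coprime.le_normalizer_inf ((inf_le_inf_right _ h1).trans h.nC)
      (inf_le_left.trans le_normalizer)⟩

theorem map [Finite X] {Y : Type*} [Group Y] (f : X →* Y) : St p (N.map f) (R.map f) (P.map f) := by
  have := h.sol
  refine ⟨(map_mono h.hR).trans (le_normalizer_map f), Group.isSolvable_of_surjective (f.subgroupMap_surjective R),
    (h.cop.coprime_dvd_left (card_map_dvd _ _)).coprime_dvd_right (card_map_dvd _ _),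
    h.cp.coprime_dvd_left (card_map_dvd _ _), map_mono h.le, h.pg.map f, (map_mono h.nR).trans (le_normalizer_map f), ?_⟩
  rw [← Coprime.map_inf_centralizer f h.hR (h.cop.coprime_dvd_right (card_dvd_of_le inf_le_left)) (.inl h.sol)]
  exact (map_mono h.nC).trans (le_normalizer_map f)

theorem subgroupOf {Γ : Subgroup X} (h1 : N ≤ Γ) (h2 : R ≤ Γ) :
    St p (N.subgroupOf Γ) (R.subgroupOf Γ) (P.subgroupOf Γ) := by
  have e1 := Nat.card_congr (subgroupOfEquivOfLe h1).toEquiv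
  have e2 := Nat.card_congr (subgroupOfEquivOfLe h2).toEquiv
  refine ⟨(comap_mono h.hR).trans (le_normalizer_comap _), Coprime.isSolvable_of_mulEquiv (subgroupOfEquivOfLe h2).symm
    h.sol, by rw [e1, e2]; exact h.cop, by rw [e2]; exact h.cp, comap_mono h.le, h.pg.comap_subtype,
    (comap_mono h.nR).trans (le_normalizer_comap _), fun g hg => le_normalizer_comap _ (h.nC ⟨hg.1, fun r hr => ?_⟩)⟩
  exact congrArg Subtype.val (hg.2 ⟨r, h2 hr⟩ hr)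

theorem mem_of_pow {g : X} (hg : g ∈ N ⊔ R) {n : ℕ} (e : g ^ p ^ n = 1) : g ∈ N := by
  obtain ⟨k, hk, r, hr, rfl⟩ := (Coprime.mem_sup_iff_of_le_normalizer h.hR).1 hg
  have key : ∀ m : ℕ, (k * r) ^ m * (r ^ m)⁻¹ ∈ N := fun m => by
    induction m with
    | zero => simp
    | succ m ih =>
      have := mul_mem hk (Coprime.conj_mem_of_le_normalizer h.hR hr ih)
      rwa [show k * (r * ((k * r) ^ m * (r ^ m)⁻¹) * r⁻¹) = (k * r) ^ (m + 1) * (r ^ (m + 1))⁻¹ by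
        rw [pow_succ', pow_succ' r]; group] at this
  have h1 := key (p ^ n)
  rw [e, one_mul, inv_mem_iff] at h1
  refine mul_mem hk (zpowers_le.2 h1 (mem_zpowers_pow_iff.2 ?_))
  exact ((h.cp.coprime_dvd_left (R.orderOf_dvd_natCard hr)).pow_right n).symm

end St

section Lin

variable {p : ℕ} [hp : Fact p.Prime] {M : Type*} [AddCommGroup M] [Module (ZMod p) M] [FiniteDimensional (ZMod p) M]

local notation "GLM" => LinearMap.GeneralLinearGroup (ZMod p) M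
local notation "EM" => M →ₗ[ZMod p] M
local notation "Sg" => quadraticRootSubgroups

variable {G N R P D : Subgroup (LinearMap.GeneralLinearGroup (ZMod p) M)} {a b d η : M →ₗ[ZMod p] M}
  {g : LinearMap.GeneralLinearGroup (ZMod p) M}

theorem exists_pp (hG : NU G) (h2 : (2 : ZMod p) ≠ 0) (h3 : Nat.card (ZMod p) ≠ 3) (hD : D ∈ Sg G) :
    ∃ a b, PP G a b ∧ D = EG G a := by
  obtain ⟨d, hd, rfl⟩ := mem_Sig.1 hD
  obtain ⟨β, h5, h6⟩ := hG.exists_opp h2 h3 hd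
  obtain ⟨α, h7, h8, e1, e2⟩ := h6.partner h2 h3 hd h5 h5.mem_eS h5.ne
  exact ⟨α, β, ⟨h2, h3, (hd.of_eS h7 h8).1, h5, e1, e2⟩, (hd.EG_eq h7 h8).symm⟩

variable [Finite (LinearMap.GeneralLinearGroup (ZMod p) M)] (hG : NU G) (h2 : (2 : ZMod p) ≠ 0)
  (h3 : Nat.card (ZMod p) ≠ 3)
include hG h2 h3

omit hG h2 h3 in
theorem norm_of_mem_cmp (hg : g ∈ G) (h : conjBy D g ∈ cmp (Sg G) D) : conjBy (cmpG (Sg G) D) g = cmpG (Sg G) D := by
  refine eq_of_le_of_card_ge ?_ (card_map_of_injective (MulEquiv.injective _)).ge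
  rw [conjBy_iSup]
  refine iSup_le fun B => ?_
  rw [conjBy_iSup]
  exact iSup_le fun hB => le_gen (S := cmp (Sg G) D) (cmp_eq h ▸ cmp_cj hB hg)

omit [Finite (LinearMap.GeneralLinearGroup (ZMod p) M)] in
theorem cent_of_not_mem {E : Subgroup GLM} (hE : E ∈ Sg G) (h : E ∉ cmp (Sg G) D) : Comm (cmpG (Sg G) D) E :=
  comm_gen fun _ hB => (hG.rs h2 h3).comm_of_not_mem (fun _ => hG.ni h2 h3) hB hE h

omit [Finite (LinearMap.GeneralLinearGroup (ZMod p) M)] in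
theorem mem_cmp_of_norm (hD : D ∈ Sg G) (hg : g ∈ G) (h : conjBy (cmpG (Sg G) D) g = cmpG (Sg G) D) :
    conjBy D g ∈ cmp (Sg G) D := by
  obtain ⟨a, b, P, rfl⟩ := exists_pp hG h2 h3 hD
  by_contra h1
  have h4 := cent_of_not_mem hG h2 h3 (conj_Sig hD hg) h1
  have h5 := comm_EG_iff.1 (comm_conjBy_iff.1 fun x hx => h4 x (h.le
    (conjBy_le_conjBy_iff.2 (le_gen (mem_cmp_opp P)) hx))) b P.mb.mem_eS a P.ma.mem_eS
  exact P.ma.ne (by rw [← P.e1, ← h5, mul_assoc, P.ma.sq, mul_zero])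

variable (hN : (⨆ B ∈ quadraticRootSubgroups G, B) ≤ N)
  (hf : ∀ g ∈ N, ∀ D, ∀ E ∈ cmp (quadraticRootSubgroups G) D, conjBy E g ∈ cmp (quadraticRootSubgroups G) D)
include hN hf

theorem exists_fix (hD : D ∈ Sg G) {S : Subgroup GLM} (hS : S ≤ N) (hS' : IsPGroup p S) :
    ∃ k ∈ cmpG (Sg G) D, S ≤ normalizer (conjBy D k) := by
  obtain ⟨a, b, P, rfl⟩ := exists_pp hG h2 h3 hD
  obtain ⟨T, e1, e2, e3, e4⟩ := Coprime.exists_le_sylow_relIndex (K := N ⊓ normalizer (EG G a))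
    (U := cmpG (Sg G) (EG G a) ⊓ UU a) (le_inf (inf_le_left.trans (cmpG_le.trans hN))
      fun g hg => conjBy_eq_self_iff.1 (UU_norm hg.2)) ((pgroup_UU h2).to_inf_right)
  have e5 : ¬ p ∣ T.relIndex N := Coprime.not_dvd_relIndex_of_normalizer (e2.trans inf_le_left) e3 fun h =>
    e4 (h.trans (Dvd.intro _ (relIndex_mul_relIndex _ _ _ (le_inf (e2.trans inf_le_left) le_normalizer)
      fun g hg => ⟨hg.1, conjBy_eq_self_iff.1 (fix_eq hG P
      (hf g hg.1 _ _ (mem_cmp_self hD)) fun u hu => by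
        rw [conjBy_conjBy, conjBy_eq_conjBy_iff, conjBy_eq_self_iff]
        exact (e2 (by simpa only [mul_assoc] using (mem_normalizer_iff''.1 hg.2 u).1 (e1 hu))).2)⟩)))
  obtain ⟨k, hk, e6⟩ := Coprime.exists_conj_smul_le_sylow (e2.trans inf_le_left) e3 e5 hS hS'
  obtain ⟨k', hk', e7⟩ := cmp_exists_conj hD (hf k hk _ _ (mem_cmp_self hD))
  refine ⟨k', hk', e6.trans ?_⟩
  rw [← e7]
  exact (map_mono (e2.trans inf_le_right)).trans (le_normalizer_map _)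

theorem exists_fam {T : Set (Subgroup GLM)} (hT : T ⊆ Sg G) (h : T.Pairwise fun D E => E ∉ cmp (Sg G) D) :
    ∃ S ≤ N, IsPGroup p S ∧ ¬ p ∣ S.relIndex N ∧ ∀ D ∈ T, S ≤ normalizer D := by
  induction T, Set.toFinite T using Set.Finite.induction_on with
  | empty =>
    obtain ⟨S, -, h1, h4, h5⟩ := Coprime.exists_le_sylow_relIndex (K := N) bot_le (IsPGroup.of_bot (p := p))
    exact ⟨S, h1, h4, h5, by simp⟩
  | @insert D T hD _ ih =>
    obtain ⟨S, h1, h4, h5, h6⟩ := ih (fun E hE => hT (.inr hE)) (h.mono (Set.subset_insert _ _))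
    obtain ⟨k, hk, h7⟩ := exists_fix hG h2 h3 hN hf (hT (.inl rfl)) h1 h4
    have h8 := N.inv_mem (hN (cmpG_le hk))
    refine ⟨MulAut.conj k⁻¹ • S, Coprime.conj_smul_le_of_mem_normalizer (le_normalizer h8) h1,
      Coprime.isPGroup_conj_smul _ h4, by rwa [Coprime.relIndex_conj_smul (le_normalizer h8)], ?_⟩
    rintro E (rfl | hE)
    · exact (map_mono h7).trans ((le_normalizer_map _).trans
        (congrArg (fun X : Subgroup GLM => normalizer (X : Set GLM)) (conjBy_inv_conjBy E k)).le)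
    · exact (map_mono (h6 E hE)).trans ((le_normalizer_map _).trans
        (congrArg (fun X : Subgroup GLM => normalizer (X : Set GLM)) ((cent_of_not_mem hG h2 h3 (hT (.inr hE))
        (h (.inl rfl) (.inr hE) fun e => hD (e ▸ hE))).conjBy_eq (inv_mem hk))).le)

theorem exists_orb (h : St p N R P) (hR : R ≤ G) (hD : D ∈ Sg G)
    (h1 : R ⊓ normalizer (cmpG (Sg G) D) ≤ normalizer D) :
    ∃ H ≤ N ⊓ normalizer D, P ≤ H ∧ R ≤ normalizer H ∧ cmpG (Sg G) D ⊓ normalizer D ≤ H := by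
  have key : ∀ g ∈ R, conjBy D g ∈ cmp (Sg G) D → conjBy D g = D := fun g hg e =>
    conjBy_eq_self_iff.2 (h1 ⟨hg, conjBy_eq_self_iff.1 (norm_of_mem_cmp (hR hg) e)⟩)
  have hH : R ≤ normalizer (N ⊓ ⨅ g ∈ R, normalizer (conjBy D g) : Subgroup GLM) :=
    Coprime.le_normalizer_inf h.hR fun _ => conjBy_eq_self_iff.1 ∘ conjBy_eq_of_le fun r hr => le_iInf₂ fun g hg => by
      rw [← mul_inv_cancel_left r g, ← conjBy_conjBy]
      exact (map_mono (iInf₂_le _ (mul_mem (inv_mem hr) hg))).trans (le_normalizer_map _)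
  obtain ⟨S, h4, h5, h6, h7⟩ := exists_fam hG h2 h3 hN hf (T := {E | ∃ g ∈ R, E = conjBy D g})
    (by rintro _ ⟨g, hg, rfl⟩; exact conj_Sig hD (hR hg)) (by
      rintro _ ⟨g, hg, rfl⟩ _ ⟨g', hg', rfl⟩ hne e
      have := cmp_cj e (inv_mem (hR hg))
      rw [conjBy_inv_conjBy, conjBy_conjBy] at this
      exact hne (conjBy_eq_conjBy_iff.2 (key _ (mul_mem (inv_mem hg) hg') this)).symm)
  have h8 : S ≤ N ⊓ ⨅ g ∈ R, normalizer (conjBy D g) := le_inf h4 (le_iInf₂ fun g hg => h7 _ ⟨g, hg, rfl⟩)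
  refine ⟨_, inf_le_inf_left _ ((iInf₂_le 1 (one_mem _)).trans (by rw [conjBy_one])), ?_, hH,
    le_inf (inf_le_left.trans (cmpG_le.trans hN)) (le_iInf₂ fun g hg k hk => ?_)⟩
  · obtain ⟨T, e1, e2, e3, e4⟩ := Coprime.exists_invariant_sylow' p hH
      (h.cop.coprime_dvd_right (card_dvd_of_le inf_le_left)) (.inl h.sol)
    refine (h.le_sylow (e1.trans inf_le_left) e2 ?_ e4).trans e1
    rw [← relIndex_mul_relIndex _ _ _ e1 inf_le_left, hp.out.dvd_mul, not_or]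
    exact ⟨e3, fun e => h6 (e.trans (relIndex_dvd_of_le_left _ h8))⟩
  · by_cases e : conjBy D g ∈ cmp (Sg G) D
    · rw [key g hg e]; exact hk.2
    · exact conjBy_eq_self_iff.1 ((cent_of_not_mem hG h2 h3 (conj_Sig hD (hR hg)) e).conjBy_eq hk.1)

omit hf in
theorem exists_pair (h : St p N R P) (hR : R ≤ G) (hD : D ∈ Sg G) : ∃ a b, PP G a b ∧ EG G a ∈ cmp (Sg G) D ∧
    R ⊓ normalizer (cmpG (Sg G) D) ≤ normalizer (EG G a) ⊓ normalizer (EG G b) := by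
  have hs : Group.IsSolvable ↥(R ⊓ normalizer (cmpG (Sg G) D)) := Coprime.isSolvable_of_le h.sol inf_le_left
  have hc : (Nat.card ↥(R ⊓ normalizer (cmpG (Sg G) D))).Coprime (Nat.card (cmpG (Sg G) D)) :=
    Coprime.coprime_of_le h.cop inf_le_left (cmpG_le.trans hN)
  obtain ⟨k, hk, h1⟩ := Coprime.exists_conj_normalized inf_le_right hc (.inl hs) D fun g hg =>
    cmp_exists_conj hD (mem_cmp_of_norm hG h2 h3 hD (hR hg.1) (conjBy_eq_self_iff.2 hg.2))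
  have h4 := (hG.rs h2 h3).cmp_conj (fun _ => hG.ni h2 h3) (mem_cmp_self hD) (cmpG_le hk)
  obtain ⟨a, b, P, e⟩ := exists_pp hG h2 h3 h4.1
  change _ ≤ normalizer (conjBy D k : Set GLM) at h1
  rw [e] at h1 h4
  have h5 : EG G b ≤ cmpG (Sg G) D := le_gen (S := cmp (Sg G) D) (cmp_eq h4 ▸ mem_cmp_opp P)
  obtain ⟨m, hm, h6⟩ := Coprime.exists_conj_normalized (K := cmpG (Sg G) D ⊓ UU a) (Coprime.le_normalizer_inf
    inf_le_right fun g hg => conjBy_eq_self_iff.1 (norm_UU P.ma (conjBy_eq_self_iff.2 (h1 hg))))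
    (Coprime.coprime_of_le hc le_rfl inf_le_left) (.inl hs) (EG G b) fun g hg => by
      have h7 := P.cj (hR hg.1)
      obtain ⟨m, hm, e⟩ := opp_conj P h7.mb (h7.opp.of_eS h7.ma h7.mb (P.ma.eS_eq (cj_mem_of_norm
        (conjBy_eq_self_iff.2 (h1 hg)) P.ma.mem_eS) h7.ma.ne ▸ P.ma.mem_eS) P.ma.ne h7.mb.mem_eS h7.mb.ne) cmpG_le'
        (le_gen h4) h5 (conjBy_EG (hR hg.1) ▸ (conjBy_le_conjBy_iff.2 h5).trans (conjBy_eq_self_iff.2 hg.2).le)
      exact ⟨m, hm, (conjBy_EG (hR hg.1)).trans e.symm⟩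
  have h7 := P.cj (cmpG_le' hm.1)
  rw [cj_of_comm (UU_comm hm.2 P.ma.mem_eS)] at h7
  exact ⟨a, _, h7, h4, le_inf h1 (conjBy_EG (cmpG_le' hm.1) ▸ h6)⟩

theorem dyd_zero (h : St p N R P) (hR : R ≤ G) (hη : QF G η) (hx : qu η hη.sq ∈ P)
    (ih : ∀ H < N, R ≤ normalizer H → P ≤ H → ∃ Q : Subgroup GLM, IsPGroup p Q ∧ qu η hη.sq ∈ Q ∧ Q ≤ H ∧
      H ≤ normalizer Q) (hNG : N ≤ G) (hd : Mn G d) : d * η * d = 0 := by
  obtain ⟨a, b, P', h1, h4⟩ := exists_pair hG h2 h3 hN h hR hd.mem_Sig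
  have h5 := mem_cmp_opp P'
  have e1 : cmpG (Sg G) (EG G a) = cmpG (Sg G) (EG G d) := by rw [cmpG, cmp_eq h1]
  have e2 : cmpG (Sg G) (EG G b) = cmpG (Sg G) (EG G d) := by rw [cmpG, cmp_eq h5, cmp_eq h1]
  obtain ⟨H, a1, a2, a3, a4⟩ := exists_orb hG h2 h3 hN hf h hR h1.1 (e1 ▸ h4.trans inf_le_left)
  obtain ⟨H', b1, b2, b3, b4⟩ := exists_orb hG h2 h3 hN hf h hR h5.1 (e2 ▸ h4.trans inf_le_right)
  obtain ⟨Q, q1, q2, q3, q4⟩ := ih (H ⊓ H') (lt_of_le_of_ne (inf_le_left.trans (a1.trans inf_le_left)) fun e => by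
    have := comm_of_norm h2 P'.mb P'.ma.sq (conjBy_eq_self_iff.2 (b1 (e.ge (hN (le_gen h1.1
      (qu_mem_EG P'.ma.mem_eS)))).2).2) P'.mb.mem_eS
    exact P'.ma.ne (by rw [← P'.e1, this, mul_assoc, P'.ma.sq, mul_zero])) (Coprime.le_normalizer_inf a3 b3)
    (le_inf a2 b2)
  have c : Cx G (cmpG (Sg G) (EG G d)) Q a b η := ⟨P', cmpG_le', le_gen h1, e1 ▸ le_gen h5, hη, unip_of_pgroup q1, q2,
    fun g hg => conjBy_eq_self_iff.2 (a1 (q3 hg).1).2, fun g hg => conjBy_eq_self_iff.2 (b1 (q3 hg).2).2,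
    fun g hg g1 g2 => conjBy_eq_self_iff.2 (q4 ⟨a4 ⟨e1 ▸ hg, conjBy_eq_self_iff.1 g1⟩,
      b4 ⟨e2 ▸ hg, conjBy_eq_self_iff.1 g2⟩⟩),
    norm_of_mem_cmp (hNG (h.le hx)) (hf _ (h.le hx) _ _ (mem_cmp_self hd.mem_Sig))⟩
  exact c.all hG (fun y hy => norm_cmpG hG h2 h3 (le_gen hy.mem_Sig (qu_mem_EG hy.mem_eS))) hd
    (le_gen (mem_cmp_self hd.mem_Sig))

omit hG hN hf in
theorem lin_nu (h : St p N R P) (hG : NU (N ⊔ R)) (hη : η * η = 0) (hx : qu η hη ∈ P)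
    (ih : ∀ H < N, R ≤ normalizer H → qu η hη ∈ H → ∃ Q : Subgroup GLM, IsPGroup p Q ∧ qu η hη ∈ Q ∧ Q ≤ H ∧
      H ≤ normalizer Q) : η = 0 := by
  have hN : ∀ α (hα : QF (N ⊔ R) α), qu α hα.sq ∈ N := fun α hα => h.mem_of_pow hα.qu_mem (n := 1) (Units.ext (by
    rw [pow_one, Units.val_pow_eq_pow_val, qu_val, one_add_pow hα.sq]; simp))
  have hNn : ∀ g ∈ N ⊔ R, conjBy N g = N :=
    conjBy_eq_of_mem_sup (fun _ => conjBy_of_mem) fun g hg => conjBy_eq_self_iff.2 (h.hR hg)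
  have hR : R ≤ N ⊔ R := le_sup_right
  have hNG : N ≤ N ⊔ R := le_sup_left
  generalize N ⊔ R = G at *
  have hq : QF G η := qf_of hη (coe_mem_mon.2 (hNG (h.le hx)))
  have fin : ∀ H : Subgroup GLM, ¬ N ≤ H → (∀ g ∈ G, conjBy H g = H) → qu η hη ∈ H → η = 0 := fun H h1 h4 h5 => by
    have h6 : ∀ g ∈ G, conjBy (N ⊓ H) g = N ⊓ H := fun g hg => by rw [conjBy_inf, hNn g hg, h4 g hg]
    obtain ⟨Q, q1, q2, q3, q4⟩ := ih (N ⊓ H) (inf_lt_left.2 h1) (fun g hg => conjBy_eq_self_iff.1 (h6 g (hR hg)))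
      ⟨h.le hx, h5⟩
    rw [hG.of_normal (inf_le_left.trans hNG) h6 Q q3 (fun g hg => conjBy_eq_self_iff.2 (q4 hg))
      (unip_of_pgroup q1)] at q2
    exact qu_eq_one.1 q2
  have h0 : (⨆ B ∈ Sg G, B : Subgroup GLM) ≤ N := iSup₂_le fun B hB g hg => by
    obtain ⟨a, -, rfl⟩ := mem_Sig.1 hB
    obtain ⟨b, hb, rfl⟩ := mem_EG'.1 hg
    exact hN _ (eS_qf hb)
  have h1 : ∀ g ∈ G, conjBy (⨆ B ∈ Sg G, B : Subgroup GLM) g = ⨆ B ∈ Sg G, B := fun g =>
    conjBy_gen_of fun _ h _ => conj_Sig h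
  have h4 : ∀ g ∈ G, conjBy (centralizer (⨆ B ∈ Sg G, B : Subgroup GLM)) g = centralizer (⨆ B ∈ Sg G, B : Subgroup GLM) :=
    fun g hg => conjBy_eq_self_iff.2 (Coprime.le_normalizer_centralizer (fun g hg => conjBy_eq_self_iff.1 (h1 g hg)) hg)
  by_cases h5 : N ≤ (⨆ B ∈ Sg G, B) ⊔ centralizer (⨆ B ∈ Sg G, B : Subgroup GLM)
  swap
  · refine fin _ h5 (fun g hg => by rw [conjBy_sup, h1 g hg, h4 g hg]) ?_
    refine qf_induction (p := fun η hη => qu η hη.sq ∈ _) (fun η hη ih => ?_) η hq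
    rcases hG.decomp h2 h3 hη with h | ⟨a, b, ha, hb, h4, -, e⟩
    · exact mem_sup_right h
    · exact e ▸ mul_mem (ih b hb h4) (mem_sup_left (le_gen ha.mem_Sig (qu_mem_EG ha.mem_eS)))
  have hf : ∀ g ∈ N, ∀ D, ∀ E ∈ cmp (Sg G) D, conjBy E g ∈ cmp (Sg G) D := fun g hg =>
    sup_induction (p := fun g => ∀ D, ∀ E ∈ cmp (Sg G) D, conjBy E g ∈ cmp (Sg G) D)
      (fun g hg D E hE => (hG.rs h2 h3).cmp_conj (fun _ => hG.ni h2 h3) hE hg)
      (fun g hg D E hE => by rwa [conjBy_of_comm fun x hx => (hg x (le_gen hE.1 hx)).symm])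
      (fun x _ y _ hx hy D E hE => conjBy_conjBy E y x ▸ hx D _ (hy D E hE)) g (h5 hg)
  have h6 := fun d => dyd_zero (d := d) hG h2 h3 h0 hf h hR hq hx (fun H e1 e2 e3 => ih H e1 e2 (e3 hx)) hNG
  by_contra h7
  obtain ⟨α, hα⟩ := exists_mn hq h7
  obtain ⟨a, b, P', -⟩ := exists_pp hG h2 h3 hα.mem_Sig
  refine h7 (fin _ (fun e => P'.ma.ne ?_) h4 fun x hx => ?_)
  · have := qu_comm.1 (e (hN _ P'.mb.toQF) _ (le_gen P'.ma.mem_Sig (qu_mem_EG P'.ma.mem_eS)))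
    rw [← P'.e1, this, mul_assoc, P'.ma.sq, mul_zero]
  · refine comm_gen (B := zpowers (qu η hη)) (fun A hA => ?_) x hx _ (mem_zpowers _)
    obtain ⟨α, ha, rfl⟩ := mem_Sig.1 hA
    refine (comm_iff_le_centralizer.2 (zpowers_le.2 fun y hy => ?_)).symm
    obtain ⟨a, ha', rfl⟩ := mem_EG'.1 hy
    by_cases h0 : a = 0
    · exact qu_comm.2 (by simp [h0])
    · exact qu_comm.2 (hG.lemC h2 h3 hq h6 (ha.of_eS ha' h0).1)

end Lin

end CfsgLib.EqK
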