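import Mathlib
import Cfsg.Agent.Lib.EqK.Lin
import Cfsg.Agent.Lib.CFun.KInfMain

/-! Normality of `K^∞(P)` for the intersection `P` of the invariant Sylow subgroups. -/

set_option autoImplicit false

namespace CfsgLib.EqK

open Cfsg CfsgLib.RootSub CfsgLib.EqZJ CfsgLib.PLocal CfsgLib.CFun CfsgLib.Tech Subgroup
open scoped commutatorElement

universe u

variable {p : ℕ} [hp : Fact p.Prime]

theorem lin_main (h5 : 5 ≤ p) (n : ℕ) : ∀ (Γ : Type u) [Group Γ] [Finite Γ] {N R P : Subgroup Γ}, St p N R P →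
    N ⊔ R = ⊤ → Nat.card N ≤ n → ∀ (W : Type u) [AddCommGroup W] [Module (ZMod p) W] [Finite W] [Nontrivial W]
    (σ : Representation (ZMod p) Γ W), (∀ U : Submodule (ZMod p) W, (∀ g, ∀ w ∈ U, σ g w ∈ U) → U = ⊥ ∨ U = ⊤) →
    ∀ x ∈ P, (σ x - 1) ^ 2 = 0 → σ x = 1 := by
  induction n using Nat.strong_induction_on with
  | _ n ih =>
  intro Γ _ _ N R P h hT hn W _ _ _ _ σ hirr x hx h2
  have : Finite (Module.End (ZMod p) W) := Finite.of_injective _ DFunLike.coe_injective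
  let ρ := σ.toHomUnits
  have h1 : N.map ρ ⊔ R.map ρ = ρ.range := by rw [← Subgroup.map_sup, hT, ← MonoidHom.range_eq_map]
  have h3 : IsIrreducibleFor ρ.range := ⟨exists_ne 0, fun U hU => hirr U fun g => hU _ ⟨g, rfl⟩⟩
  have h4 : ((ρ x : Module.End (ZMod p) W) - 1) * ((ρ x : Module.End (ZMod p) W) - 1) = 0 := (sq _).symm.trans h2
  refine sub_eq_zero.1 (lin_nu (η := (ρ x).val - 1) (Ring.two_ne_zero (by rw [ZMod.ringChar_zmod_n]; omega))
    (by rw [Nat.card_zmod]; omega) (h.map ρ) (h1 ▸ nu_of_irr (irr_sup h3 _)) h4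
    (by rw [qu_sub]; exact mem_map_of_mem _ hx) fun H hH hR hxH => ?_)
  rw [qu_sub] at hxH ⊢
  have h6 := ((h.map ρ).sub hH.le hR).subgroupOf (Γ := H ⊔ R.map ρ) le_sup_left le_sup_right
  let x' : ↥(H ⊔ R.map ρ) := ⟨ρ x, mem_sup_left hxH⟩
  have hx' : x' ∈ (P.map ρ ⊓ H).subgroupOf (H ⊔ R.map ρ) := ⟨mem_map_of_mem _ hx, hxH⟩
  have h7 : H.subgroupOf (H ⊔ R.map ρ) ⊔ (R.map ρ).subgroupOf (H ⊔ R.map ρ) = ⊤ := by
    rw [← subgroupOf_sup le_sup_left le_sup_right, subgroupOf_self]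
  have h8 : (H.subgroupOf (H ⊔ R.map ρ)).Normal := normal_subgroupOf_of_le_normalizer (sup_le le_normalizer hR)
  refine ⟨(normalClosure {x'}).map (H ⊔ R.map ρ).subtype, IsPGroup.map ?_ _,
    mem_map_of_mem _ (subset_normalClosure (s := {x'}) rfl),
    map_le_iff_le_comap.2 (normalClosure_le_normal (N := H.subgroupOf _) (Set.singleton_subset_iff.2 hxH)),
    le_sup_left.trans ((map_subtype_top _).ge.trans ((map_mono le_normalizer_of_normal).trans (le_normalizer_map _)))⟩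
  rintro ⟨y, hy⟩
  obtain ⟨k, hk⟩ := PStab.exists_coprime_orderOf_pow (p := p) y
  refine ⟨k, Subtype.ext ?_⟩
  by_contra h9
  let τ : Representation (ZMod p) ↥(H ⊔ R.map ρ) W := (Units.coeHom _).comp (H ⊔ R.map ρ).subtype
  obtain ⟨W', _, _, _, _, σ', e1, e2, e3⟩ := HH.exists_irred (F := ZMod p) (y ^ p ^ k) (orderOf (y ^ p ^ k))
    (fun e => hp.out.coprime_iff_not_dvd.1 hk.symm ((ZMod.natCast_eq_zero_iff _ _).1 e)) _ τ rfl
    (by rw [← map_pow, pow_orderOf_eq_one, map_one]) fun e => h9 (Subtype.ext (Units.ext e))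
  have : Finite W' := Module.finite_of_finite (ZMod p)
  have e4 := ih _ (lt_of_lt_of_le (by
    rw [Nat.card_congr (subgroupOfEquivOfLe le_sup_left).toEquiv]
    exact (Core.card_lt_of_lt hH).trans_le (Nat.le_of_dvd Nat.card_pos (card_map_dvd _ _))) hn) _ h6 h7 le_rfl W' σ' e1
    x' hx' (e3.sub_one_pow_eq_zero _ _ h2)
  exact e2 (Units.ext_iff.1 (normalClosure_le_normal (N := σ'.toHomUnits.ker)
    (Set.singleton_subset_iff.2 (Units.ext e4)) (pow_mem hy _)))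

variable {G : Type u} [Group G] [Finite G] {N R S : Subgroup G}

theorem St.mem_cent (h : St p N R S) (h5 : 5 ≤ p) (hT : N ⊔ R = ⊤) {V : Subgroup G} [V.Normal]
    (hV : IsElementaryAbelian p V) (h0 : V ≠ ⊥) (hm : ∀ M : Subgroup G, M.Normal → M ≤ V → M = ⊥ ∨ M = V) {x : G}
    (hS : x ∈ S) (hx : ⁅⁅V, zpowers x⁆, zpowers x⁆ = ⊥) : x ∈ centralizer (V : Set G) := by
  have hH : (⊤ : Subgroup G) ≤ normalizer V := le_normalizer_of_normal
  have : Finite (ElemMod hV) := Finite.of_injective _ ElemMod.toG_injective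
  obtain ⟨v, hv⟩ := (ne_bot_iff_exists_ne_one).1 h0
  have : Nontrivial (ElemMod hV) := nontrivial_of_ne (ElemMod.ofG hV v v.2) 0 fun e =>
    hv (Subtype.ext (ElemMod.toG_eq_one.2 e))
  refine (ElemMod.rep_eq_one_iff hH ⟨x, mem_top x⟩).1 (lin_main h5 _ G h hT le_rfl (ElemMod hV)
    ((ElemMod.rep hV hH).comp (topEquiv (G := G)).symm.toMonoidHom) (fun W hW => ?_) x hS ((sq _).trans
    (LinearMap.ext fun w => sub_eq_zero.2 (ElemMod.rep_quadratic hH ⟨x, mem_top x⟩ hx w))))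
  refine (hm (ElemMod.toSubgroup W) ⟨?_⟩ (ElemMod.toSubgroup_le W)).imp (fun e => ?_) fun e => ?_
  · rintro _ ⟨w, hw, rfl⟩ g
    exact ⟨_, hW g w hw, ElemMod.toG_rep hH _ _⟩
  · exact eq_bot_iff.2 fun w hw => ElemMod.toG_eq_one.1 (e.le (ElemMod.toG_mem_toSubgroup.2 hw))
  · exact eq_top_iff.2 fun w _ => ElemMod.toG_mem_toSubgroup.1 (e.ge w.toG_mem)

theorem St.chief (h : St p N R S) (h5 : 5 ≤ p) (hT : N ⊔ R = ⊤) {U V : Subgroup G} (hc : IsChiefFactor U V)
    (hU : IsPGroup p U) {x : G} (hS : x ∈ S) (hx : ⁅⁅U, zpowers x⁆, zpowers x⁆ ≤ V) : ⁅U, zpowers x⁆ ≤ V := by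
  have := hc.2.1
  have := hc.2.2.1
  have hf := QuotientGroup.mk'_surjective V
  have : (U.map (QuotientGroup.mk' V)).Normal := .map inferInstance _ hf
  have e : ∀ {A : Subgroup G}, A.map (QuotientGroup.mk' V) = ⊥ ↔ A ≤ V := by
    intro A; rw [Subgroup.map_eq_bot_iff, QuotientGroup.ker_mk']
  have := (h.map (QuotientGroup.mk' V)).mem_cent h5 (by rw [← Subgroup.map_sup, hT, map_top_of_surjective _ hf])
    (V := U.map (QuotientGroup.mk' V)) ⟨le_centralizer_iff_isMulCommutative.1 (comm_eq_bot_iff.1 (by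
      rw [← map_commutator, e]; exact chief_commutator_le hc hU le_rfl)), by
      rintro _ ⟨u, hu, rfl⟩
      rw [← map_pow]; exact (QuotientGroup.eq_one_iff _).2 (chief_pow_mem hc hU hu)⟩
    (fun e1 => hc.1.not_ge (e.1 e1)) (fun M hM hMU => by
      have h1 : V ≤ M.comap (QuotientGroup.mk' V) := (QuotientGroup.ker_mk' V).ge.trans (ker_le_comap _ _)
      refine (hc.2.2.2 _ (hM.comap _) h1 ((comap_mono hMU).trans (by
        rw [comap_map_eq, QuotientGroup.ker_mk', sup_eq_left.2 hc.1.le]))).imp (fun e1 => ?_) fun e1 => ?_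
      · rw [← map_comap_eq_self_of_surjective hf M, e1, e]
      · rw [← map_comap_eq_self_of_surjective hf M, e1])
    (mem_map_of_mem _ hS) (by rwa [← MonoidHom.map_zpowers, ← map_commutator, ← map_commutator, e])
  rw [← e, map_commutator, MonoidHom.map_zpowers, commutator_comm]
  exact comm_eq_bot_iff.2 (zpowers_le.2 this)

section Main

variable {A : Subgroup G} [A.Normal] (hAT : A ≤ pCore p G) (h3 : ⁅pCore p G, A⁆ ≤ zc A)
  (hq : ∀ g ∈ S, ∀ U V, IsChiefFactor U V → U ≤ A → ⁅⁅U, zpowers g⁆, zpowers g⁆ ≤ V → ⁅U, zpowers g⁆ ≤ V)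
  (hk : ∀ g ∈ S, g ∈ chiefKer A → g ∈ pCore p G)

omit hp [Finite G] in
include hq hk in
theorem mem_of_quad {g : G} (hg : g ∈ S) (h5 : ⁅⁅A, zpowers g⁆, zpowers g⁆ ≤ zc A)
    (h6 : ⁅⁅zc A, zpowers g⁆, zpowers g⁆ = ⊥) : g ∈ pCore p G :=
  hk g hg (mem_chiefKer_iff.2 fun U V h hU => hq g hg U V h hU
    (chief_iter_le_of_filtration (m := 2) (n := 2) le_rfl le_rfl h5 h6 h hU))

include hAT h3 hq hk

theorem le_of_lower {R B : Subgroup G} (hAR : A ≤ R) (hBS : B ≤ S) (hB : B ∈ kLowerStarFamily R) :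
    B ≤ pCore p G := by
  have hT := Core.isPGroup_pCore p G
  have hAB : A ≤ 𝐍(B) := hAR.trans hB.2.1
  have hABle : ⁅A, B⁆ ≤ B := LAE.commutator_le_right_of_le_normalizer hAB
  have hABB : ⁅⁅A, B⁆, B⁆ ≤ zc B := (commutator_mono hABle le_rfl).trans (classTwo_iff'.1 hB.1)
  have hzB : ⁅zc B, B⁆ = ⊥ := comm_eq_bot_iff.2 (zc_le_cent B)
  have hZZ : ⁅zc A, zc A⁆ = ⊥ := comm_eq_bot_iff.2 (zc_le_cent_zc A)
  have hZB : ⁅B, zc A⁆ ≤ zc B := hB.2.2 _ (classTwo_of_comm (zc_le_cent_zc A))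
    ((zc_le A).trans hAR) le_normalizer_of_normal (by rw [hZZ, commutator_bot_right])
    (le_bot_iff.1 (hZZ ▸ commutator_mono (commutator_le_right _ _) le_rfl))
  have h2B : ⁅⁅zc A, B⁆, B⁆ = ⊥ := by
    rw [commutator_comm (zc A)]
    exact le_bot_iff.1 (hzB ▸ commutator_mono hZB le_rfl)
  have h2g : ∀ g ∈ B, ⁅⁅zc A, zpowers g⁆, zpowers g⁆ = ⊥ := fun g hg =>
    le_bot_iff.1 (h2B ▸ comm_comm_mono le_rfl (zpowers_le.2 hg))
  have hc1 : zc B ≤ pCore p G := fun g hg => by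
    refine mem_of_quad hq hk (hBS hg.1) ?_ (h2g g hg.1)
    refine (commutator_mono ((commutator_mono le_rfl (zpowers_le.2 hg.1)).trans hABle)
      (zpowers_le.2 hg)).trans ?_
    rw [commutator_comm, hzB]; exact bot_le
  have hc2 : B ≤ chiefKer (zc A) := fun g hg => mem_chiefKer_iff.2 fun U V h hU =>
    hq g (hBS hg) U V h (hU.trans (zc_le A)) ((comm_comm_mono hU le_rfl).trans ((h2g g hg).le.trans bot_le))
  refine fun g hg => hk g (hBS hg) (mem_chiefKer_iff.2 fun U V h hU => hq g (hBS hg) U V h hU ?_)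
  refine (comm_comm_mono le_rfl (zpowers_le.2 hg)).trans ?_
  have hDn := chiefKer_normal (zc A)
  have hsub : LAE.SubnormalIn (𝐂(zc A) ⊔ B) ⊤ :=
    (LAE.subnormalIn_of_pResOf_le (p := p) ((pResOf_chiefKer_le
      (hT.to_le ((zc_le A).trans hAT))).trans le_sup_left)
      (sup_le (cent_le_chiefKer _) hc2)).trans
      (LAE.SubnormalIn.of_normal le_top le_normalizer_of_normal)
  set Z₁ := zc A ⊓ 𝐂(B) with hZ₁
  have hHZ : 𝐂(zc A) ⊔ B ≤ 𝐍(Z₁) :=
    (sup_le (cent_anti inf_le_left) (cent_comm inf_le_right)).trans (cent_le_norm _)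
  have hAZ : A ≤ 𝐍(Z₁) := (cent_comm (zc_le_cent A)).trans (le_sup_left.trans hHZ)
  set A₁ := A ⊓ Core.commutatorStabilizer A Z₁ with hA₁
  have hHA₁ : 𝐂(zc A) ⊔ B ≤ 𝐍(A₁) := LAE.le_normalizer_inf le_normalizer_of_normal
    (norm_commutatorStabilizer le_normalizer_of_normal hHZ)
  have hA₁A : ⁅A₁, A⁆ ≤ Z₁ := (Core.le_commutatorStabilizer_iff.1 inf_le_right).2
  have hAA : ⁅A, A⁆ ≤ zc A := (commutator_mono hAT le_rfl).trans h3
  have hBA₁ : ⁅B, A₁⁆ ≤ zc B := by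
    refine hB.2.2 A₁ (classTwo_of_le (classTwo_iff'.2 hAA) inf_le_left) (inf_le_left.trans hAR)
      (le_sup_right.trans hHA₁) ?_ ?_
    · exact comm_eq_bot_iff.2 (cent_comm (((commutator_mono le_rfl inf_le_left).trans hA₁A).trans
        inf_le_right))
    · exact comm_eq_bot_iff.2 (((commutator_mono hc1 inf_le_left).trans h3).trans
        ((zc_le_cent A).trans (cent_anti inf_le_left)))
  refine chief_quad_of_subnormal hsub le_sup_right hHA₁ (A := A) ?_ ?_ h hU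
    ((commutator_mono le_rfl (hU.trans hAT)).trans (chief_commutator_le h hT (hU.trans hAT)))
  · have h5 : ⁅⁅A, B⁆, B⁆ ≤ A :=
      (commutator_mono (commutator_le_left _ _) le_rfl).trans (commutator_le_left _ _)
    refine le_inf h5 (Core.le_commutatorStabilizer_iff.2 ⟨h5.trans hAZ, le_inf ?_ ?_⟩)
    · exact (commutator_mono h5 le_rfl).trans hAA
    · exact (commutator_mono hABB le_rfl).trans ((LAE.commutator_le_left_of_le_normalizer
        (hAB.trans (norm_le_norm_zc B))).trans (zc_le_cent B))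
  · rw [commutator_comm A₁]
    exact le_bot_iff.1 (hzB ▸ commutator_mono hBA₁ le_rfl)

theorem kUp_eq (hTS : pCore p G ≤ S) : kUpIn (pCore p G) = kUpIn S := by
  have hAA : ⁅A, A⁆ ≤ zc A := (commutator_mono hAT le_rfl).trans h3
  have h0 : ∀ n, A ≤ oddIn S n → evenIn S n ≤ pCore p G := fun n hA =>
    loIn_le_iff.2 fun B hBS hB => le_of_lower hAT h3 hq hk hA hBS hB
  have hL : kLoIn S ≤ pCore p G := iSup_le fun n => h0 n (by
    induction n with
    | zero => exact hAT.trans hTS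
    | succ n ih =>
      refine le_upIn (hAT.trans hTS) ⟨classTwo_iff'.2 hAA, ?_⟩
      rw [commutator_comm]
      exact (commutator_mono (h0 n ih) le_rfl).trans h3)
  have hAL : A ≤ kLoIn S := by
    rw [kLoIn_eq]
    refine le_loIn (hAT.trans hTS) (lower_iff.2 ⟨classTwo_iff'.2 hAA, le_normalizer_of_normal,
      fun B _ hBU hAB h6 h7 => ?_⟩)
    rw [commutator_comm]
    refine (commutator_mono (fun g hg => ?_) le_rfl).trans h3
    have hz := zpowers_le.2 hg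
    refine mem_of_quad hq hk (kUpIn_le S (hBU hg)) (le_inf ?_ ?_) (le_bot_iff.1 (h7 ▸ comm_comm_mono le_rfl hz))
    · exact (commutator_mono (commutator_le_left _ _) le_rfl).trans (commutator_le_left _ _)
    · exact (commutator_mono ((commutator_mono le_rfl hz).trans
        (LAE.commutator_le_right_of_le_normalizer hAB)) hz).trans (cent_comm (comm_eq_bot_iff.1 h6))
  refine (kIn_eq_of_le hTS hL ?_).2
  rw [kUpIn_eq, upIn_le_iff]
  intro B hBS hB g hg
  have h5 : ⁅⁅A, zpowers g⁆, zpowers g⁆ = ⊥ := by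
    refine comm_eq_bot_iff.2 (le_trans ?_ ((zc_le_cent B).trans (cent_anti (zpowers_le.2 hg))))
    rw [commutator_comm]
    exact (commutator_mono (zpowers_le.2 hg) hAL).trans hB.2
  exact mem_of_quad hq hk (hBS hg) (h5.le.trans bot_le) (le_bot_iff.1 (h5 ▸ comm_comm_mono (zc_le A) le_rfl))

end Main

theorem St.kUp_top (h : St p N R S) (h5 : 5 ≤ p) (hT : N ⊔ R = ⊤) (hO : pCore p G ≤ S)
    (hc : ∀ y ∈ N, (orderOf y).Coprime p → y ∈ 𝐂(pCore p G) → y ∈ 𝐂(N)) : kUpIn (pCore p G) = kUpIn S := by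
  have hP := Core.isPGroup_pCore p G
  obtain ⟨A, hAn, hAT, h3, h4⟩ := exists_crit hP
  have : N.Normal := normalizer_eq_top_iff.1 (top_le_iff.1 (hT.ge.trans (sup_le le_normalizer h.hR)))
  have := chiefKer_normal A
  refine kUp_eq hAT h3 (fun g hg U V hc hU => h.chief h5 hT hc (hP.to_le (hU.trans hAT)) hg) (fun g hg hk => ?_) hO
  have h1 : zpowers g ≤ chiefKer A ⊓ N := zpowers_le.2 ⟨hk, h.le hg⟩
  refine zpowers_le.1 (LAE.le_pCore_of_isSubnormal (LAE.SubnormalIn.isSubnormal_of_top (((LAE.SubnormalIn.of_normal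
    (H := zpowers g ⊔ chiefKer A ⊓ N ⊓ 𝐂(N)) le_sup_left (sup_le le_normalizer (inf_le_right.trans ((cent_anti
    (h1.trans inf_le_right)).trans (cent_le_norm _))))).trans (LAE.subnormalIn_of_pResOf_le (p := p)
    (K := chiefKer A ⊓ N) (le_trans (LAE.pResOf_le_iff.2 fun y hy hy' => mem_inf.2 ⟨hy, hc y hy.2 hy' (mem_cent_of_self_cent hP h4
    (mem_cent_of_mem_chiefKer (hP.to_le hAT) hy.1 hy') hy')⟩) le_sup_right) (sup_le h1 inf_le_left))).trans
    (LAE.SubnormalIn.of_normal le_top le_normalizer_of_normal))) (h.pg.to_le (zpowers_le.2 hg)))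

theorem St.kUp (h : St p N R S) (h5 : 5 ≤ p) (hO : pCoreOf p N ≤ S)
    (hc : ∀ y ∈ N, (orderOf y).Coprime p → y ∈ 𝐂(pCoreOf p N) → y ∈ 𝐂(N)) : kUpIn (pCoreOf p N) = kUpIn S := by
  have h1 : N ⊔ R ≤ 𝐍(N) := sup_le le_normalizer h.hR
  have e : (pCore p ↥(N ⊔ R)).map (N ⊔ R).subtype = pCoreOf p N :=
    le_antisymm (LAE.le_pCoreOf (LAE.isPGroup_pCoreOf _) (fun g hg => by
      obtain ⟨n, hn⟩ := isPGroup_iff_mem.1 (LAE.isPGroup_pCoreOf _) g hg
      exact h.mem_of_pow (LAE.pCoreOf_le _ hg) hn) (le_sup_left.trans (LAE.le_normalizer_pCoreOf _)))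
      (LAE.pCoreOf_mono_of_normal le_sup_left h1)
  have := congrArg (Subgroup.map (N ⊔ R).subtype) ((h.subgroupOf le_sup_left le_sup_right).kUp_top h5 (by
    rw [← subgroupOf_sup le_sup_left le_sup_right, subgroupOf_self]) (map_le_iff_le_comap.1 (e.le.trans hO))
    fun y hy hy' hz n hn => Subtype.ext (hc y hy (by rwa [orderOf_coe]) (fun z hz' => by
      obtain ⟨z, hz'', rfl⟩ := e.ge hz'
      exact congrArg Subtype.val (hz z hz'')) n hn))
  rwa [map_kUpIn (subtype_injective _), map_kUpIn (subtype_injective _), e, subgroupOf_map_subtype,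
    inf_eq_left.2 (h.le.trans le_sup_left)] at this

/-- The intersection of the `R`-invariant Sylow `p`-subgroups of `N`. -/
def icore (p : ℕ) (N R : Subgroup G) : Subgroup G :=
  sInf {T | T ≤ N ∧ IsPGroup p T ∧ ¬ p ∣ T.relIndex N ∧ R ≤ 𝐍(T)}

theorem St.le_icore (h : St p N R S) : S ≤ icore p N R := le_sInf fun _ hT => h.le_sylow hT.1 hT.2.1 hT.2.2.1 hT.2.2.2

theorem st_icore (hR : R ≤ 𝐍(N)) (sol : Group.IsSolvable R) (cop : (Nat.card R).Coprime (Nat.card N))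
    (cp : (Nat.card R).Coprime p) : St p N R (icore p N R) := by
  obtain ⟨T, hT⟩ := Coprime.exists_invariant_sylow' p hR cop (.inl sol)
  have h0 : icore p N R ≤ T := sInf_le hT
  refine ⟨hR, sol, cop, cp, h0.trans hT.1, hT.2.1.to_le h0,
    fun _ => conjBy_eq_self_iff.1 ∘ conjBy_eq_of_le fun g hg => le_sInf fun T hT =>
      (conjBy_le_conjBy_iff.2 (sInf_le hT)).trans (conjBy_eq_self_iff.2 (hT.2.2.2 hg)).le,
    fun _ => conjBy_eq_self_iff.1 ∘ conjBy_eq_of_le fun g hg => le_sInf fun T hT => ?_⟩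
  have h1 := le_normalizer (N.inv_mem hg.1)
  refine (conjBy_le_conjBy_iff.2 (sInf_le ?_)).trans (conjBy_conjBy_inv T g).le
  exact ⟨Coprime.conj_smul_le_of_mem_normalizer h1 hT.1, Coprime.isPGroup_conj_smul _ hT.2.1,
    (Coprime.relIndex_conj_smul h1 T).symm ▸ hT.2.2.1,
    Coprime.le_normalizer_conj_smul_of_mem_centralizer (inv_mem hg.2) hT.2.2.2⟩

omit hp [Finite G] in
theorem St.pCoreOf (h : St p N R S) : St p N R (pCoreOf p N) :=
  ⟨h.hR, h.sol, h.cop, h.cp, LAE.pCoreOf_le _, LAE.isPGroup_pCoreOf _, LAE.le_normalizer_pCoreOf_of_le h.hR,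
    inf_le_left.trans (LAE.le_normalizer_pCoreOf _)⟩

end CfsgLib.EqK
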