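import Mathlib
import Cfsg.Agent.Lib.EqK.KNorm
import Cfsg.Agent.Lib.Flav.Q5
import Cfsg.Agent.Lib.Comp.Bender
import Cfsg.Agent.Lib.LAE.FStarAct

/-! Shult's fixed point theorem for an operator group on a `p`-group, and the subgroup `O^p(F*(H))`. -/

set_option autoImplicit false

namespace CfsgLib.EqK

open Cfsg CfsgLib.PLocal CfsgLib.CFun CfsgLib.Tech CfsgLib.Comp CfsgLib.PComp Subgroup
open scoped commutatorElement

variable {p r : ℕ} [hp : Fact p.Prime] {Γ : Type*} [Group Γ] [Finite Γ] {W A : Subgroup Γ} {a y : Γ}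

/-- `B K / K` is a nonabelian `2`-group. -/
def Two (B K : Subgroup Γ) : Prop := (∀ g ∈ B, ∃ k, g ^ 2 ^ k ∈ K) ∧ ¬ ⁅B, B⁆ ≤ K

omit [Finite Γ] in
theorem Two.comap {Δ : Type*} [Group Δ] (f : Γ →* Δ) {B : Subgroup Γ} {K : Subgroup Δ} (h : Two (B.map f) K) :
    Two B (K.comap f) :=
  ⟨fun g hg => (h.1 _ (mem_map_of_mem f hg)).imp fun k hk => by rwa [mem_comap, map_pow],
    fun e => h.2 (by rwa [← map_commutator, map_le_iff_le_comap])⟩

theorem sh_min (hr : r.Prime) (ha : a ^ r = 1) (haA : a ∈ 𝐍(A)) (hA : ¬ r ∣ Nat.card A)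
    (hT : W ⊔ (A ⊔ zpowers a) = ⊤) {V : Subgroup Γ} [V.Normal] (hV : IsElementaryAbelian p V) (hW : W ≤ 𝐂(V))
    (hm : ∀ M : Subgroup Γ, M.Normal → M ≤ V → M = ⊥ ∨ M = V) (hf : V ⊓ 𝐂(zpowers a) ≤ 𝐂(A))
    (hn : ¬ ⁅A, zpowers a⁆ ≤ 𝐂(V)) : Two ⁅A, zpowers a⁆ 𝐂(V) := by
  have hH : (⊤ : Subgroup Γ) ≤ 𝐍(V) := le_normalizer_of_normal
  have : Finite (ElemMod hV) := Finite.of_injective _ ElemMod.toG_injective
  have : Finite (Module.End (ZMod p) (ElemMod hV)) := Finite.of_injective _ DFunLike.coe_injective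
  have h1 : V ⊓ 𝐂(A) = ⊥ := (hm _ (normalizer_eq_top_iff.1 (top_le_iff.1 (hT.ge.trans (sup_le
    ((hW.trans (cent_anti inf_le_left)).trans (cent_le_norm _)) (LAE.le_normalizer_inf le_normalizer_of_normal
    (LAE.le_normalizer_centralizer (sup_le le_normalizer (zpowers_le.2 haA)))))))) inf_le_left).resolve_right
    fun e => hn ((commutator_mono (cent_comm (e.ge.trans inf_le_right)) le_rfl).trans (commutator_le_left _ _))
  obtain ⟨v, hv⟩ := (ne_bot_iff_exists_ne_one (H := V)).1 fun e => hn fun g _ x hx => by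
    rw [mem_bot.1 (e.le hx), one_mul, mul_one]
  have : Nontrivial (ElemMod hV) := nontrivial_of_ne (ElemMod.ofG hV v v.2) 0 fun e =>
    hv (Subtype.ext (ElemMod.toG_eq_one.2 e))
  let ρ := (ElemMod.rep hV hH).toHomUnits.comp (topEquiv (G := Γ)).symm.toMonoidHom
  have hk : (⊥ : Subgroup _).comap ρ = 𝐂(V) := SetLike.ext fun g =>
    Units.ext_iff.trans (ElemMod.rep_eq_one_iff hH ⟨g, mem_top g⟩)
  have e : ⁅A, zpowers a⁆.map ρ = ⁅A.map ρ, zpowers (ρ a)⁆ := by rw [map_commutator, MonoidHom.map_zpowers]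
  have h2 : ⁅A.map ρ, zpowers (ρ a)⁆ ≠ ⊥ := fun h => hn (by rw [← hk, ← map_le_iff_le_comap, e, h])
  obtain ⟨q, -, k⟩ := Flav.shult (p := p) (Units.coeHom (Module.End (ZMod p) (ElemMod hV))) (a := ρ a) (G := A.map ρ)
    hr (by rw [← map_pow, ha, map_one]) (fun w hw => ElemMod.toG_eq_one.1 (h1.le ⟨w.toG_mem, hf ⟨w.toG_mem,
      Flav.cent_zp.2 ((ElemMod.rep_apply_eq_iff hH ⟨a, mem_top a⟩ w).1 hw)⟩⟩))
    (le_normalizer_map ρ (mem_map_of_mem ρ haA)) (fun h => hA (h.trans (card_map_dvd _ _))) (fun _ e => Units.ext e)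
    (fun U h3 h4 => by
      have h5 : ⊤ ≤ HH.stab ((Units.coeHom _).comp ρ) U := hT.ge.trans (sup_le (fun g hg w hw => by
        have : ρ g = 1 := hk.ge (hW hg)
        simpa [this] using hw) (sup_le (fun g hg => h3 _ (mem_map_of_mem ρ hg)) (zpowers_le.2 h4)))
      refine (hm (ElemMod.toSubgroup U) ⟨?_⟩ (ElemMod.toSubgroup_le U)).imp (fun e => ?_) fun e => ?_
      · rintro _ ⟨w, hw, rfl⟩ g
        exact ⟨_, h5 (mem_top g) w hw, ElemMod.toG_rep hH _ _⟩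
      · exact eq_bot_iff.2 fun w hw => ElemMod.toG_eq_one.1 (e.le (ElemMod.toG_mem_toSubgroup.2 hw))
      · exact eq_top_iff.2 fun w _ => ElemMod.toG_mem_toSubgroup.1 (e.ge w.toG_mem)) h2
  refine hk ▸ Two.comap ρ (e ▸ ⟨isPGroup_iff_mem.1 k.two, fun h => h2 ?_⟩)
  rw [← k.comm]
  exact Flav.comm_bot.2 fun x hx => Flav.fx_comm (k.le_fx_of_comm le_rfl k.norm
    (fun x hx y hy => Flav.of_comm_one (h (commutator_mem_commutator hx hy))) hx)

theorem sh_top (hr : r.Prime) (hrp : r ≠ p) (ha : a ^ r = 1) (haA : a ∈ 𝐍(A)) (hA : ¬ r ∣ Nat.card A)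
    (hT : W ⊔ (A ⊔ zpowers a) = ⊤) [W.Normal] (hW : IsPGroup p W) (hf : W ⊓ 𝐂(zpowers a) ≤ 𝐂(A))
    (hy : y ∈ ⁅A, zpowers a⁆) (hy' : (orderOf y).Coprime p) (hn : y ∉ 𝐂(W)) :
    ∃ K, y ∉ K ∧ 𝐂(W) ≤ K ∧ Two ⁅A, zpowers a⁆ K := by
  obtain ⟨U, V, hc, hU, h1⟩ : ∃ U V, IsChiefFactor U V ∧ U ≤ W ∧ ¬ ⁅U, zpowers y⁆ ≤ V := by
    by_contra! h
    exact hn (mem_cent_of_mem_chiefKer hW (mem_chiefKer_iff.2 h) hy')
  have := hc.2.1
  have := hc.2.2.1
  have hs := QuotientGroup.mk'_surjective V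
  have : (U.map (QuotientGroup.mk' V)).Normal := .map inferInstance _ hs
  have e : ∀ {A : Subgroup Γ}, A.map (QuotientGroup.mk' V) = ⊥ ↔ A ≤ V := by
    intro A; rw [Subgroup.map_eq_bot_iff, QuotientGroup.ker_mk']
  have e1 : ∀ {B : Subgroup Γ}, B.map (QuotientGroup.mk' V) ≤ 𝐂(U.map (QuotientGroup.mk' V)) ↔ ⁅U, B⁆ ≤ V := by
    intro B; rw [← comm_eq_bot_iff, ← map_commutator, e, commutator_comm]
  obtain ⟨n, hn⟩ := (hW.to_le ((inf_le_left (b := (QuotientGroup.mk' V).ker)).trans hU)).exists_card_eq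
  have h2 : y ∉ (𝐂(U.map (QuotientGroup.mk' V))).comap (QuotientGroup.mk' V) := fun h =>
    h1 (e1.1 (map_le_iff_le_comap.2 (zpowers_le.2 h)))
  refine ⟨_, h2, map_le_iff_le_comap.1 (e1.2 ?_), Two.comap _ ?_⟩
  · rw [comm_eq_bot_iff.2 (cent_comm (cent_anti hU))]; exact bot_le
  rw [map_commutator, MonoidHom.map_zpowers]
  refine sh_min (p := p) (W := W.map (QuotientGroup.mk' V)) hr (by rw [← map_pow, ha, map_one])
    (le_normalizer_map _ (mem_map_of_mem _ haA)) (fun h => hA (h.trans (card_map_dvd _ _)))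
    (by rw [← MonoidHom.map_zpowers, ← Subgroup.map_sup, ← Subgroup.map_sup, hT, map_top_of_surjective _ hs])
    ⟨le_centralizer_iff_isMulCommutative.1 (e1.2 (chief_commutator_le hc (hW.to_le hU) le_rfl)), by
      rintro _ ⟨u, hu, rfl⟩
      rw [← map_pow]; exact (QuotientGroup.eq_one_iff _).2 (chief_pow_mem hc (hW.to_le hU) hu)⟩
    (e1.2 (chief_commutator_le hc hW hU)) (fun M hM hMU => ?_) ?_ fun h => h2 ?_
  · have h1 : V ≤ M.comap (QuotientGroup.mk' V) := (QuotientGroup.ker_mk' V).ge.trans (ker_le_comap _ _)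
    refine (hc.2.2.2 _ (hM.comap _) h1 ((comap_mono hMU).trans (by
      rw [comap_map_eq, QuotientGroup.ker_mk', sup_eq_left.2 hc.1.le]))).imp (fun e1 => ?_) fun e1 => ?_
    · rw [← map_comap_eq_self_of_surjective hs M, e1, e]
    · rw [← map_comap_eq_self_of_surjective hs M, e1]
  · rw [← MonoidHom.map_zpowers, ← Coprime.map_inf_centralizer _ le_normalizer_of_normal (by
      rw [hn, Nat.card_zpowers]
      exact (((Nat.coprime_primes hr hp.out).2 hrp).coprime_dvd_left (orderOf_dvd_of_pow_eq_one ha)).pow_right n)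
      (.inl (Coprime.isSolvable_zpowers a)), ← comm_eq_bot_iff, ← map_commutator,
      comm_eq_bot_iff.2 ((inf_le_inf_right _ hU).trans hf), Subgroup.map_bot]
  · exact h (by rw [← MonoidHom.map_zpowers, ← map_commutator]; exact mem_map_of_mem _ hy)

theorem sh (hr : r.Prime) (hrp : r ≠ p) (ha : a ^ r = 1) (haA : a ∈ 𝐍(A)) (hA : ¬ r ∣ Nat.card A)
    (hW : IsPGroup p W) (hAW : A ≤ 𝐍(W)) (haW : a ∈ 𝐍(W)) (hf : W ⊓ 𝐂(zpowers a) ≤ 𝐂(A))
    (hy : y ∈ ⁅A, zpowers a⁆) (hy' : (orderOf y).Coprime p) (hn : y ∉ 𝐂(W)) :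
    ∃ K, y ∉ K ∧ ⁅A, zpowers a⁆ ⊓ 𝐂(W) ≤ K ∧ Two ⁅A, zpowers a⁆ K := by
  set Δ := W ⊔ (A ⊔ zpowers a)
  have h1 : W ≤ Δ := le_sup_left
  have h2 : A ≤ Δ := le_sup_of_le_right le_sup_left
  have h3 : zpowers a ≤ Δ := le_sup_of_le_right le_sup_right
  have h4 := Core.commutator_le_of_le h2 h3
  have e : zpowers (⟨a, zpowers_le.1 h3⟩ : Δ) = (zpowers a).subgroupOf Δ :=
    map_injective Δ.subtype_injective (by rw [MonoidHom.map_zpowers, map_subgroupOf_eq_of_le h3]; rfl)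
  have : (W.subgroupOf Δ).Normal :=
    normal_subgroupOf_of_le_normalizer (sup_le le_normalizer (sup_le hAW (zpowers_le.2 haW)))
  obtain ⟨K, k1, k2, k3⟩ := sh_top (W := W.subgroupOf Δ) (A := A.subgroupOf Δ) (a := ⟨a, zpowers_le.1 h3⟩)
    (y := ⟨y, h4 hy⟩) hr hrp (Subtype.ext ha) (le_normalizer_comap _ haA)
    (by rwa [Nat.card_congr (subgroupOfEquivOfLe h2).toEquiv])
    (by rw [e, ← subgroupOf_sup h2 h3, ← subgroupOf_sup h1 (sup_le h2 h3), subgroupOf_self]) hW.comap_subtype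
    (fun g hg x hx => Subtype.ext (hf ⟨hg.1, Flav.cent_zp.2 (congrArg Subtype.val (Flav.cent_zp.1 hg.2))⟩ _ hx))
    (by rwa [e, Core.commutator_subgroupOf h2 h3]) (by rwa [← orderOf_coe])
    fun h => hn fun x hx => congrArg Subtype.val (h ⟨x, h1 hx⟩ hx)
  rw [e, Core.commutator_subgroupOf h2 h3] at k3
  refine ⟨K.map Δ.subtype, fun ⟨z, hz, e⟩ => k1 (by rwa [← show z = ⟨y, h4 hy⟩ from Subtype.ext e]),
    fun g hg => ⟨⟨g, h4 hg.1⟩, k2 fun x hx => Subtype.ext (hg.2 _ hx), rfl⟩,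
    fun g hg => (k3.1 ⟨g, h4 hg⟩ hg).imp fun k hk => mem_map_of_mem Δ.subtype hk, fun h => k3.2 ?_⟩
  rw [Core.commutator_subgroupOf h4 h4]
  exact (comap_mono h).trans (comap_map_eq_self_of_injective Δ.subtype_injective K).le

theorem mem_pCoreOf_of_res {D : Subgroup Γ} (h : LAE.pResOf p D ≤ 𝐂(D)) (hy : y ∈ D) {k : ℕ} (e : y ^ p ^ k = 1) :
    y ∈ pCoreOf p D :=
  zpowers_le.1 (((LAE.SubnormalIn.of_normal (H := zpowers y ⊔ LAE.pResOf p D) le_sup_left (sup_le le_normalizer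
    ((h.trans (cent_anti (zpowers_le.2 hy))).trans (cent_le_norm _)))).trans (LAE.subnormalIn_of_pResOf_le (p := p)
    le_sup_right (sup_le (zpowers_le.2 hy) (LAE.pResOf_le _)))).le_pCoreOf (by
    rintro ⟨_, n, rfl⟩
    exact ⟨k, Subtype.ext (show (y ^ n) ^ p ^ k = 1 by
      rw [← zpow_natCast, ← zpow_mul, mul_comm, zpow_mul, zpow_natCast, e, one_zpow])⟩))

/-- `O^p(F*(H))`. -/
def Lp (p : ℕ) (H : Subgroup Γ) : Subgroup Γ := LAE.pResOf p (fstarOf H)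

variable {H : Subgroup Γ}

omit hp [Finite Γ] in
theorem Lp_le : Lp p H ≤ H := (LAE.pResOf_le _).trans (map_subtype_le _)

omit hp [Finite Γ] in
theorem norm_Lp (h : A ≤ 𝐍(H)) : A ≤ 𝐍(Lp p H) :=
  LAE.le_normalizer_pResOf_of_le (h.trans (normalizer_le_normalizer_fstarOf H))

theorem Lp_le_sup : Lp p H ≤ layerOf H ⊔ opOf p H ⊓ fitOf H ∧ fstarOf H ≤ pCoreOf p H ⊔ Lp p H := by
  have h1 : fstarOf H = pCoreOf p H ⊔ (layerOf H ⊔ opOf p H ⊓ fitOf H) := by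
    rw [fstarOf_eq, fitOf_eq_sup (p := p) H, sup_left_comm, ← fitOf_eq_sup]; rfl
  refine ⟨?_, h1.le.trans (sup_le_sup_left (sup_le ?_ fun g hg => LAE.mem_pResOf (fitOf_le_fstarOf H hg.2)
    ((coprime_opOf_inf_fitOf H).coprime_dvd_left (orderOf_dvd_natCard _ hg))) _)⟩
  · rw [Lp, h1, LAE.pResOf_sup_of_isPGroup (LAE.isPGroup_pCoreOf H) ((LAE.pCoreOf_le H).trans (LAE.le_normalizer_sup
      (le_normalizer_layerOf H) (le_normalizer_opOf_inf_fitOf H)))]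
    exact LAE.pResOf_le _
  · have := Transfer.pResidual_normal p (layerOf H)
    have h1 : (⊤ : Subgroup (layerOf H)) ≤ pResidual p (layerOf H) := by
      refine le_of_perfect_of_forall_coprime (p := p) ?_ fun y _ hy => Transfer.mem_pResidual_of_coprime hy
      apply map_injective (layerOf H).subtype_injective
      rw [map_commutator, map_subtype_top, layerOf_perfect]
    exact ((map_subtype_top _).ge.trans (map_mono h1)).trans (LAE.pResOf_mono (layerOf_le_fstarOf H))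

theorem Lp_le_cent : Lp p H ≤ 𝐂(pCoreOf p H) :=
  Lp_le_sup.1.trans (sup_le ((layerOf_le_centralizer_fitOf H).trans (cent_anti (pCoreIn_le_fitOf p H)))
    (cent_comm (le_centralizer_of_isPGroup_of_coprime (LAE.isPGroup_pCoreOf H) (coprime_opOf_inf_fitOf H)
    ((LAE.pCoreOf_le H).trans (le_normalizer_opOf_inf_fitOf H))
    ((inf_le_right.trans (map_subtype_le _)).trans (LAE.le_normalizer_pCoreOf H)))))

theorem mem_Lp (hy : y ∈ H) (hy' : (orderOf y).Coprime p) (h1 : y ∈ 𝐂(pCoreOf p H)) (h2 : y ∈ 𝐂(Lp p H)) :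
    y ∈ Lp p H :=
  LAE.mem_pResOf (fitOf_le_fstarOf H (inf_centralizer_fstarOf_le H ⟨hy, zpowers_le.1 (cent_comm (Lp_le_sup.2.trans
    (sup_le (cent_comm (zpowers_le.2 h1)) (cent_comm (zpowers_le.2 h2)))))⟩)) hy'

omit hp in
theorem Lp_le_Lp (h1 : Lp p H ≤ A) (h2 : A ≤ 𝐍(Lp p H)) : Lp p H ≤ Lp p A := by
  have h3 := LAE.fstarOf_eq_self (.of_normal (Lp_le (p := p)) (norm_Lp le_normalizer)) (LAE.pResOf_le (fstarOf H))
  have h4 := map_mono (f := A.subtype) (map_fstar_le_of_isSubnormal (LAE.SubnormalIn.of_normal h1 h2).isSubnormal)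
  refine (LAE.pResOf_pResOf _).ge.trans (LAE.pResOf_mono (h3.ge.trans (le_of_eq_of_le ?_ h4)))
  rw [fstarOf, ← fstar_map_equiv (subgroupOfEquivOfLe h1), Subgroup.map_map, Subgroup.map_map]
  rfl

end CfsgLib.EqK
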