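import Mathlib
import Cfsg.Agent.Lib.EqK.Sh
import Cfsg.Agent.Lib.Coprime.Generation
import Cfsg.Agent.Lib.Coprime.Abelian
import Cfsg.Agent.Lib.SolvStruct.HallMisc
import Cfsg.Agent.Lib.Frob.Quaternion

/-! A noncyclic abelian coprime operator group centralizing `O^p(F*(C(a)))` for all `a` centralizes `O^p(F*(G))`. -/

set_option autoImplicit false

namespace CfsgLib.EqK

open Cfsg CfsgLib.RootSub CfsgLib.PLocal CfsgLib.CFun CfsgLib.Tech Subgroup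
open scoped commutatorElement Pointwise

variable {X : Type*} [Group X]

/-- `R ≅ r × r` acts coprimely on `G` and centralizes `O^p(F*(C_G(a)))` for all `a ∈ R#`. -/
structure Ctx (p r : ℕ) (G R : Subgroup X) : Prop where
  h5 : 5 ≤ p
  pr : r.Prime
  ne : r ≠ p
  hR : R ≤ 𝐍(G)
  cop : (Nat.card R).Coprime (Nat.card G)
  nd : ¬ r ∣ Nat.card G
  cp : (Nat.card R).Coprime p
  ab : IsMulCommutative R
  nc : ¬ IsCyclic R
  ord : ∀ a ∈ R, a ^ r = 1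
  gen : ∀ a ∈ R, a ≠ 1 → ∀ c ∈ R, c ∉ zpowers a → R ≤ zpowers a ⊔ zpowers c
  loc : ∀ a ∈ R, a ≠ 1 → R ≤ 𝐂(Lp p (G ⊓ 𝐂(zpowers a)))

/-- `H` is an `R`-invariant overgroup of `C_G(R)` and `R` centralizes `O^p(F*(H))`. -/
structure Good (p : ℕ) (G R H : Subgroup X) : Prop where
  le : H ≤ G
  nR : R ≤ 𝐍(H)
  ge : G ⊓ 𝐂(R) ≤ H
  cen : R ≤ 𝐂(Lp p H)

variable {p r : ℕ} {G R H Y J M : Subgroup X} {a c y : X}

theorem Good.comm (g : Good p G R H) : ⁅H, R⁆ ≤ 𝐂(Lp p H) :=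
  (commutator_mono le_rfl g.cen).trans (LAE.commutator_le_right_of_le_normalizer
    (LAE.le_normalizer_centralizer (norm_Lp le_normalizer)))

namespace Ctx

variable [hp : Fact p.Prime] [Finite X] (h : Ctx p r G R)
include h

local notation "P" => icore p G R

omit hp [Finite X] in
theorem sol : Group.IsSolvable R := Group.isSolvable_of_comm h.ab.is_comm.comm

omit hp [Finite X] in
theorem cent (hc : c ∈ R) : R ≤ 𝐂(zpowers c) :=
  (le_centralizer_iff_isMulCommutative.2 h.ab).trans (cent_anti (zpowers_le.2 hc))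

omit hp [Finite X] in
theorem cop' (hY : Y ≤ G) : (Nat.card R).Coprime (Nat.card Y) := h.cop.coprime_dvd_right (card_dvd_of_le hY)

theorem st : St p G R P := st_icore h.hR h.sol h.cop h.cp

theorem le_P (h1 : Y ≤ G) (h2 : R ≤ 𝐍(Y)) (h3 : G ⊓ 𝐂(R) ≤ 𝐍(Y)) : pCoreOf p Y ≤ P :=
  St.le_icore ⟨h.hR, h.sol, h.cop, h.cp, (LAE.pCoreOf_le Y).trans h1, LAE.isPGroup_pCoreOf Y,
    LAE.le_normalizer_pCoreOf_of_le h2, LAE.le_normalizer_pCoreOf_of_le h3⟩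

omit hp [Finite X] in
theorem norm_cent (hY : R ≤ 𝐍(Y)) (hc : c ∈ R) : R ≤ 𝐍(Y ⊓ 𝐂(zpowers c)) :=
  LAE.le_normalizer_inf hY ((h.cent hc).trans le_normalizer)

omit hp [Finite X] in
theorem good (hc : c ∈ R) (h1 : c ≠ 1) : Good p G R (G ⊓ 𝐂(zpowers c)) :=
  ⟨inf_le_left, h.norm_cent h.hR hc, inf_le_inf_left _ (cent_anti (zpowers_le.2 hc)), h.loc c hc h1⟩

omit hp in
theorem gen_le (h1 : Y ≤ G) (h2 : R ≤ 𝐍(Y)) (h3 : ∀ c ∈ R, c ≠ 1 → Y ⊓ 𝐂(zpowers c) ≤ M) : Y ≤ M :=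
  have := h.ab
  Coprime.le_of_forall_centralizer_le h.nc h2 (h.cop' h1) fun c hc e => Core.centralizer_zpowers c ▸ h3 c hc e

variable (g : Good p G R H)
include g

theorem core_le : pCoreOf p H ≤ P := h.le_P g.le g.nR (g.ge.trans le_normalizer)

theorem P_le : P ⊓ H ≤ 𝐂(Lp p H) := by
  rw [← Coprime.commutator_sup_centralizer (LAE.le_normalizer_inf h.st.nR g.nR) (h.cop' (inf_le_right.trans g.le))
    (.inl h.sol)]
  refine sup_le ((commutator_mono inf_le_right le_rfl).trans g.comm) ((LAE.le_pCoreOf (H := G ⊓ 𝐂(R))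
    h.st.pg.to_inf_left.to_inf_left (inf_le_inf_right _ (inf_le_right.trans g.le)) (LAE.le_normalizer_inf
    (LAE.le_normalizer_inf h.st.nC (g.ge.trans le_normalizer)) (inf_le_right.trans le_normalizer))).trans
    (cent_comm ((Lp_le_Lp (le_inf (Lp_le.trans g.le) (cent_comm g.cen)) (norm_Lp (g.ge.trans le_normalizer))).trans
    Lp_le_cent)))

theorem kUp : kUpIn (pCoreOf p H) = kUpIn (P ⊓ H) := by
  have h1 : pCoreOf p (H ⊓ 𝐂(Lp p H)) = pCoreOf p H := by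
    rw [(LAE.SubnormalIn.of_normal inf_le_left (LAE.le_normalizer_inf le_normalizer (LAE.le_normalizer_centralizer
      (norm_Lp le_normalizer)))).pCoreOf_eq, inf_eq_right.2 (le_inf (LAE.pCoreOf_le H) (cent_comm Lp_le_cent))]
  have h2 := h.st.sub (H := H ⊓ 𝐂(Lp p H)) (inf_le_left.trans g.le)
    (LAE.le_normalizer_inf g.nR (LAE.le_normalizer_centralizer (norm_Lp g.nR)))
  rw [← inf_assoc, inf_eq_left.2 (h.P_le g)] at h2
  rw [← h2.kUp h.h5 (h1.le.trans (le_inf (h.core_le g) (LAE.pCoreOf_le H))) fun y hy hy' e => cent_anti inf_le_right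
    (cent_comm le_rfl (mem_Lp hy.1 hy' (h1 ▸ e) hy.2)), h1]

theorem mem_of_cent (hJ : J ≤ P) (h1 : y ∈ H) (h2 : (orderOf y).Coprime p) (h3 : y ∈ 𝐂(Lp p H)) (h4 : y ∈ 𝐂(J))
    (h6 : y ∈ 𝐂((pCoreOf p H ⊔ J) ⊓ 𝐂(J))) : y ∈ Lp p H := by
  have h7 := sup_le (h.core_le g) hJ
  refine mem_Lp h1 h2 (cent_anti le_sup_left (zpowers_le.1 (Coprime.thompson_p_times_q (h.st.pg.to_le hJ)
    (by rwa [Nat.card_zpowers]) (h.st.pg.to_le h7) (cent_comm (zpowers_le.2 h4)) (le_sup_right.trans le_normalizer)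
    (LAE.le_normalizer_sup (zpowers_le.2 (LAE.le_normalizer_pCoreOf H h1)) (zpowers_le.2 (cent_le_norm _ h4)))
    (cent_comm (zpowers_le.2 h6))))) h3

variable (ha : a ∈ R) (ha1 : a ≠ 1) (haH : G ⊓ 𝐂(zpowers a) ≤ H) (hJ : J = kUpIn (pCoreOf p H))
  (hM : M = Lp p (G ⊓ 𝐍(J)))

section
include hJ

theorem J_le : J ≤ P := hJ.le.trans ((kUpIn_le _).trans (h.core_le g))

omit hp [Finite X] h g in
theorem norm_J (h1 : Y ≤ 𝐍(H)) : Y ≤ 𝐍(J) :=
  hJ ▸ (LAE.le_normalizer_pCoreOf_of_le h1).trans (norm_le_norm_kUpIn _)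

theorem cent_J : P ⊓ H ⊓ 𝐂(J) ≤ J := by
  have := (h.st.pg.to_inf_left (K := H)).isNilpotent
  rw [hJ, h.kUp g]; exact cent_kUpIn_le

include hM

omit hp [Finite X] in
theorem norm_M : R ≤ 𝐍(M) ∧ G ⊓ 𝐍(J) ≤ 𝐍(M) ∧ G ⊓ 𝐂(R) ≤ 𝐍(M) ∧ M ≤ G :=
  ⟨hM ▸ norm_Lp (LAE.le_normalizer_inf h.hR (Coprime.le_normalizer_normalizer (norm_J hJ g.nR))),
    hM ▸ norm_Lp le_normalizer, hM ▸ norm_Lp ((le_inf inf_le_left (norm_J hJ (g.ge.trans le_normalizer))).trans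
    le_normalizer), hM.le.trans (Lp_le.trans inf_le_left)⟩

theorem M_le : M ≤ 𝐂(J) := hM.le.trans (Lp_le_cent.trans (cent_anti (LAE.le_pCoreOf (h.st.pg.to_le (h.J_le g hJ))
  (le_inf ((h.J_le g hJ).trans h.st.le) le_normalizer) inf_le_right)))

include ha ha1 haH

theorem key (hc : c ∈ R) (hc1 : c ≠ 1) (hY : Y ≤ M ⊓ 𝐂(zpowers c)) (hR : R ≤ 𝐍(Y)) (hy : y ∈ ⁅Y, R⁆)
    (hy' : (orderOf y).Coprime p) : y ∈ 𝐂(R) ⊓ 𝐂(⁅G ⊓ 𝐂(zpowers c), R⁆) ∨
      ∃ K, y ∉ K ∧ ⁅Y, R⁆ ⊓ 𝐂(P ⊓ M) ≤ K ∧ Two ⁅Y, R⁆ K := by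
  obtain ⟨m1, m2, -, m4⟩ := h.norm_M g hJ hM
  have m5 := h.M_le g hJ hM
  have j1 := h.J_le g hJ
  have y1 := hY (Coprime.commutator_le_of_le_normalizer hR hy)
  have y2 : Y ≤ G ⊓ 𝐂(zpowers c) := hY.trans (inf_le_inf_right _ m4)
  by_cases e : c ∈ zpowers a
  · have : Fact r.Prime := ⟨h.pr⟩
    have e1 : zpowers c = zpowers a := eq_of_le_of_card_ge (zpowers_le.2 e) (by
      rw [Nat.card_zpowers, Nat.card_zpowers, orderOf_eq_prime (h.ord a ha) ha1, orderOf_eq_prime (h.ord c hc) hc1])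
    rw [e1] at y1 y2 ⊢
    have h1 := h.mem_of_cent g j1 (haH ⟨m4 y1.1, y1.2⟩) hy' (g.comm (commutator_mono (y2.trans haH) le_rfl hy)) (m5 y1.1)
      (cent_anti ((inf_le_inf_right _ (le_inf (sup_le (h.core_le g) j1) (sup_le (LAE.pCoreOf_le H) (hJ.le.trans
        ((kUpIn_le _).trans (LAE.pCoreOf_le H)))))).trans (h.cent_J g hJ)) (m5 y1.1))
    exact .inl ⟨cent_comm g.cen h1, cent_comm ((commutator_mono haH le_rfl).trans g.comm) h1⟩
  have g' := h.good hc hc1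
  set W := (pCoreOf p (G ⊓ 𝐂(zpowers c)) ⊔ J) ⊓ 𝐂(J)
  have w1 : W ≤ P := inf_le_left.trans (sup_le (h.core_le g') j1)
  have w2 : ∀ {A : Subgroup X}, A ≤ 𝐍(G ⊓ 𝐂(zpowers c)) → A ≤ 𝐍(J) → A ≤ 𝐍(W) := fun h1 h2 => LAE.le_normalizer_inf
    (LAE.le_normalizer_sup (LAE.le_normalizer_pCoreOf_of_le h1) h2) (LAE.le_normalizer_centralizer h2)
  have w3 : M ⊓ 𝐂(zpowers c) ≤ 𝐍(W) := w2 ((inf_le_inf_right _ m4).trans le_normalizer)
    (inf_le_left.trans (m5.trans (cent_le_norm _)))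
  by_cases e1 : y ∈ 𝐂(W ⊓ M)
  · have h1 := h.mem_of_cent g' j1 ⟨m4 y1.1, y1.2⟩ hy' (g'.comm (commutator_mono y2 le_rfl hy)) (m5 y1.1) fun t ht => by
      have h2 : ⁅t, y⁆ ∈ W ⊓ M := ⟨Coprime.commutator_le_of_le_normalizer w3 (commutator_mem_commutator ht y1),
        LAE.commutator_le_right_of_le_normalizer ((le_inf (w1.trans h.st.le) (inf_le_right.trans (cent_le_norm _))).trans
        m2) (commutator_mem_commutator ht y1.1)⟩
      obtain ⟨k, hk⟩ := isPGroup_iff_mem.1 h.st.pg _ (w1 h2.1)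
      exact Constr.commute_of_commutator_commute hy' hk (e1 _ h2)
    exact .inl ⟨cent_comm g'.cen h1, cent_comm g'.comm h1⟩
  have e2 : ⁅Y, R⁆ = ⁅Y, zpowers a⁆ := le_antisymm ((commutator_mono le_rfl (h.gen a ha ha1 c hc e)).trans
    (Core.commutator_sup_right_le (normalizer_commutator_ge_right _ _) (LAE.le_normalizer_commutator
      ((zpowers_le.2 hc).trans hR) ((zpowers_le.2 hc).trans ((h.cent ha).trans (cent_le_norm _)))) le_rfl
      ((comm_eq_bot_iff.2 (hY.trans inf_le_right)).le.trans bot_le))) (commutator_mono le_rfl (zpowers_le.2 ha))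
  rw [e2] at hy ⊢
  obtain ⟨K, k1, k2, k3⟩ := sh h.pr h.ne (h.ord a ha) (hR ha) (fun e => h.nd (e.trans (card_dvd_of_le
    (y2.trans inf_le_left)))) (h.st.pg.to_le (inf_le_left.trans w1)) (LAE.le_normalizer_inf (hY.trans w3)
    (hY.trans (inf_le_left.trans le_normalizer))) (LAE.le_normalizer_inf (w2 g'.nR (norm_J hJ g.nR)) m1 ha)
    (fun t ht => cent_anti (hY.trans inf_le_left) (cent_comm m5 (h.cent_J g hJ
      ⟨⟨w1 ht.1.1, haH ⟨h.st.le (w1 ht.1.1), ht.2⟩⟩, ht.1.1.2⟩))) hy hy' e1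
  exact .inr ⟨K, k1, (inf_le_inf_left _ (cent_anti (inf_le_inf_right _ w1))).trans k2, k3⟩

theorem le_cent (hY : Y ≤ M) (hR : R ≤ 𝐍(Y)) (h1 : (Nat.card Y).Coprime p)
    (h2 : (Nat.card Y).Coprime 2 ∨ ⁅Y, Y⁆ ≤ 𝐂(P ⊓ M)) : Y ≤ 𝐂(R) := by
  have m4 := (h.norm_M g hJ hM).2.2.2
  refine h.gen_le (hY.trans m4) hR fun c hc hc1 => cent_comm (Coprime.le_centralizer_of_commutator_le_centralizer
    (h.norm_cent hR hc) (h.cop' (inf_le_left.trans (hY.trans m4))) fun y hy => ?_)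
  have h3 := (Coprime.commutator_le_of_le_normalizer (h.norm_cent hR hc)).trans inf_le_left
  have h4 := orderOf_dvd_natCard _ (h3 hy)
  obtain e | ⟨K, k1, k2, k3⟩ := h.key g ha ha1 haH hJ hM hc hc1 (inf_le_inf_right _ hY) (h.norm_cent hR hc) hy
    (h1.coprime_dvd_left h4)
  · exact e.1
  obtain ⟨k, hk⟩ := k3.1 y hy
  exact (h2.elim (fun e => k1 (LAE.mem_of_pow_mem_of_coprime ((e.coprime_dvd_left h4).pow_right k) hk)) fun e =>
    k3.2 ((le_inf (Core.commutator_le_of_le le_rfl le_rfl) ((commutator_mono h3 h3).trans e)).trans k2)).elim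

theorem le_N (hY : Y ≤ M) (hR : R ≤ 𝐍(Y)) (h1 : IsPGroup p Y) : Y ≤ P ⊓ M ⊔ M ⊓ 𝐂(R) := by
  obtain ⟨m1, -, m3, m4⟩ := h.norm_M g hJ hM
  refine h.gen_le (hY.trans m4) hR fun c hc hc1 => ?_
  rw [← Coprime.commutator_sup_centralizer (h.norm_cent hR hc) (h.cop' (inf_le_left.trans (hY.trans m4))) (.inl h.sol)]
  refine sup_le_sup (fun y hy => ?_) (inf_le_inf_right _ (inf_le_left.trans hY))
  have h3 := (Coprime.commutator_le_of_le_normalizer (h.norm_cent hR hc) hy).1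
  have h4 := Coprime.commutator_le_of_le_normalizer (h.norm_cent m1 hc)
  obtain ⟨k, hk⟩ := (IsPGroup.iff_orderOf.1 h1) ⟨y, h3⟩
  rw [← orderOf_coe] at hk
  have h5 := LAE.pElementClosure_le (p := p) ⁅M ⊓ 𝐂(zpowers c), R⁆
  refine ⟨h.le_P (h5.trans (h4.trans (inf_le_left.trans m4))) ((normalizer_commutator_ge_right _ _).trans
    (LAE.normalizer_le_normalizer_pElementClosure _)) ((LAE.le_normalizer_commutator (LAE.le_normalizer_inf m3
    (inf_le_right.trans ((cent_anti (zpowers_le.2 hc)).trans le_normalizer))) (inf_le_right.trans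
    (cent_le_norm _))).trans (LAE.normalizer_le_normalizer_pElementClosure _)) (mem_pCoreOf_of_res
    (LAE.pResOf_le_iff.2 fun z hz hz' => ?_) (LAE.mem_pElementClosure (commutator_mono (inf_le_inf_right _ hY)
    le_rfl hy) hk) (hk ▸ pow_orderOf_eq_one y)), hY h3⟩
  obtain e | ⟨K, k1, -, k3⟩ := h.key g ha ha1 haH hJ hM hc hc1 le_rfl (h.norm_cent m1 hc) (h5 hz) hz'
  · exact cent_anti (h5.trans (commutator_mono (inf_le_inf_right _ m4) le_rfl)) e.2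
  refine (k1 (LAE.pElementClosure_le_iff.2 (fun t ht l hl => ?_) hz)).elim
  obtain ⟨k, hk⟩ := k3.1 t ht
  exact LAE.mem_of_pow_mem_of_coprime (hl ▸ Nat.Coprime.pow _ _ ((Nat.coprime_primes hp.out Nat.prime_two).2
    (by have := h.h5; omega))) hk

theorem M_le_cent : M ≤ 𝐂(R) := by
  obtain ⟨m1, m2, m3, m4⟩ := h.norm_M g hJ hM
  have m5 := h.M_le g hJ hM
  have p2 : Nat.Coprime 2 p := (Nat.coprime_primes Nat.prime_two hp.out).2 (by have := h.h5; omega)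
  set N := P ⊓ M ⊔ M ⊓ 𝐂(R)
  have n0 : N ≤ M := sup_le inf_le_right inf_le_left
  have n1 := LAE.le_normalizer_inf h.st.nR m1
  have n2 : ⁅N, R⁆ ≤ P ⊓ M := Core.commutator_sup_left_le le_normalizer (LAE.le_normalizer_inf ((inf_le_inf_right _
    m4).trans h.st.nC) (inf_le_left.trans le_normalizer)) (Coprime.commutator_le_of_le_normalizer n1)
    ((comm_eq_bot_iff.2 inf_le_right).le.trans bot_le)
  set Y := ⨅ γ ∈ M ⊔ R, conjBy N γ
  have y0 : Y ≤ N := (iInf₂_le 1 (one_mem _)).trans (conjBy_one N).le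
  have y1 : M ⊔ R ≤ 𝐍(Y) := fun _ => conjBy_eq_self_iff.1 ∘ conjBy_eq_of_le fun γ hγ => le_iInf₂ fun δ hδ => by
    rw [← mul_inv_cancel_left γ δ, ← conjBy_conjBy]
    exact conjBy_le_conjBy_iff.2 (iInf₂_le _ (mul_mem (inv_mem hγ) hδ))
  have y2 : ⁅Y, R⁆ ≤ P ⊓ 𝐂(M) := le_inf ((commutator_mono y0 le_rfl).trans (n2.trans inf_le_left))
    ((((LAE.SubnormalIn.of_normal (Coprime.commutator_le_of_le_normalizer (le_sup_right.trans y1))
    (normalizer_commutator_ge_left _ _)).trans (.of_normal (y0.trans n0) (le_sup_left.trans y1))).trans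
    (.of_normal (hM.le.trans Lp_le) m2)).le_pCoreOf (h.st.pg.to_le ((commutator_mono y0 le_rfl).trans
    (n2.trans inf_le_left))) |>.trans (cent_comm (hM.le.trans Lp_le_cent)))
  have y3 : LAE.pResOf p Y ≤ 𝐂(R) := LAE.pResOf_le_iff.2 fun z hz hz' t ht => by
    have h1 := y2 (commutator_comm R Y ▸ commutator_mem_commutator ht hz)
    obtain ⟨k, hk⟩ := isPGroup_iff_mem.1 h.st.pg _ h1.1
    exact Constr.commute_of_commutator_commute hz' hk (h1.2 _ (n0 (y0 hz))).symm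
  have y4 : LAE.pResOf p Y ≤ 𝐂(P ⊓ M) := by
    rw [← Coprime.commutator_sup_centralizer ((zpowers_le.2 ha).trans n1) (Coprime.coprime_of_le h.cop (zpowers_le.2 ha)
      (inf_le_right.trans m4)) (.inl (Coprime.isSolvable_zpowers a))]
    refine cent_comm (sup_le ((commutator_mono inf_le_right ((zpowers_le.2 ha).trans (cent_comm y3))).trans
      (LAE.commutator_le_right_of_le_normalizer (LAE.le_normalizer_centralizer (LAE.le_normalizer_pResOf_of_le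
      (le_sup_left.trans y1))))) fun t ht => cent_anti ((LAE.pResOf_le Y).trans (y0.trans n0)) (cent_comm m5
      (h.cent_J g hJ ⟨⟨ht.1.1, haH ⟨m4 ht.1.2, ht.2⟩⟩, m5 ht.1.2⟩)))
  have s0 : ∀ q, q.Prime → q ≠ 2 → ¬ q ∣ N.relIndex M := fun q hq h2 => by
    have : Fact q.Prime := ⟨hq⟩
    obtain ⟨S, s1, s2, s3, s4⟩ := Coprime.exists_invariant_sylow' q m1 (h.cop' m4) (.inl h.sol)
    refine fun e => s3 (e.trans (relIndex_dvd_of_le_left _ ?_))
    by_cases e1 : q = p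
    · exact h.le_N g ha ha1 haH hJ hM s1 s4 (e1 ▸ s2)
    obtain ⟨k, hk⟩ := s2.exists_card_eq
    exact le_sup_of_le_right (le_inf s1 (h.le_cent g ha ha1 haH hJ hM s1 s4 (hk ▸ ((Nat.coprime_primes hq hp.out).2
      e1).pow_left k) (.inl (hk ▸ ((Nat.coprime_primes hq Nat.prime_two).2 h2).pow_left k))))
  obtain ⟨S, s1, s2, s3, s4⟩ := Coprime.exists_invariant_sylow' 2 m1 (h.cop' m4) (.inl h.sol)
  have s5 := Coprime.commutator_le_of_le_normalizer s4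
  have s6 : ∀ {A : Subgroup X}, A ≤ S → (Nat.card A).Coprime p := fun hA => by
    obtain ⟨k, hk⟩ := (s2.to_le hA).exists_card_eq
    exact hk ▸ p2.pow_left k
  have s7 : N ⊓ 𝐂(⁅S, R⁆) ⊓ 𝐂(R) ≤ Y := fun z hz => mem_iInf.2 fun γ => mem_iInf.2 fun hγ => by
    obtain ⟨l, hl, s, hs, e⟩ := (Coprime.mem_sup_iff_of_le_normalizer m1).1 (inv_mem hγ)
    obtain ⟨n, hn, t, ht, rfl⟩ := (SolvStruct.coe_eq_mul_of_coprime_relIndex n0 s1 (Nat.coprime_of_dvd
      fun q hq h1 h2 => s0 q hq (fun e => s3 (e ▸ h2)) h1)).le hl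
    obtain ⟨u, hu, v, hv, e1⟩ := Coprime.exists_commutator_mul_centralizer s4 (h.cop' (s1.trans m4)) (.inl h.sol)
      (inv_mem ht)
    have h1 : n * v⁻¹ ∈ N := mul_mem hn (mem_sup_right (inv_mem ⟨s1 hv.1, hv.2⟩))
    have h2 : Commute (u⁻¹ * s) z := .mul_left (hz.1.2 _ (inv_mem hu)) (hz.2 s hs)
    have e2 : γ⁻¹ = n * v⁻¹ * (u⁻¹ * s) := by rw [← e, inv_eq_iff_eq_inv.1 e1]; simp only [mul_inv_rev, mul_assoc]
    rw [mem_conjBy, ← inv_inv γ, inv_inv γ⁻¹, e2, mul_assoc _ _ z, h2.eq, mul_inv_rev, ← mul_assoc, ← mul_assoc,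
      mul_inv_cancel_right]
    exact mul_mem (mul_mem h1 hz.1.1) (inv_mem h1)
  obtain ⟨K, k0, -, k1, k2⟩ := PGroup.exists_critical' (s2.to_le s5)
  replace k1 := map_mono (f := ⁅S, R⁆.subtype) k1
  rw [map_commutator, map_subtype_top, map_zc (subtype_injective _)] at k1
  replace k2 := map_mono (f := ⁅S, R⁆.subtype) k2
  rw [LAE.map_subtype_centralizer] at k2
  have k3 := (norm_le_norm_zc _).trans' (Core.normalizer_le_normalizer_map_subtype_of_characteristic K)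
  have k4 := (zc_le _).trans (map_subtype_le K)
  generalize K.map ⁅S, R⁆.subtype = K at k1 k2 k3 k4
  have k5 := h.le_cent g ha ha1 haH hJ hM (k4.trans (s5.trans s1)) ((normalizer_commutator_ge_right _ _).trans k3)
    (s6 (k4.trans s5)) (.inr ((comm_eq_bot_iff.2 (zc_le_cent_zc K)).le.trans bot_le))
  have k6 : zc K ≤ 𝐂(⁅S, R⁆) := cent_comm ((Coprime.commutator_commutator_eq s4 (h.cop' (s1.trans m4))).ge.trans
    ((commutator_mono le_rfl (cent_comm k5)).trans (LAE.commutator_le_right_of_le_normalizer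
    (LAE.le_normalizer_centralizer (le_normalizer.trans k3)))))
  have k7 : ⁅⁅S, R⁆, ⁅S, R⁆⁆ ≤ 𝐂(K) := comm_eq_bot_iff.1 (commutator_commutator_eq_bot_of_rotate
    (comm_eq_bot_iff.2 ((commutator_comm _ _).le.trans (k1.trans k6))) (comm_eq_bot_iff.2 (k1.trans k6)))
  have k8 := h.le_cent g ha ha1 haH hJ hM (s5.trans s1) (normalizer_commutator_ge_right _ _) (s6 s5) (.inr
    ((le_inf ((le_inf (Core.commutator_le_of_le le_rfl le_rfl) k7).trans k2) k7).trans (le_trans (fun z hz =>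
      LAE.mem_pResOf (s7 ⟨⟨mem_sup_right ⟨s1 (s5 (k4 hz)), k5 hz⟩, k6 hz⟩, k5 hz⟩)
      ((s6 (k4.trans s5)).coprime_dvd_left (orderOf_dvd_natCard _ hz))) y4)))
  have k9 : S ≤ N := le_sup_of_le_right (le_inf s1 (cent_comm (Coprime.le_centralizer_of_commutator_le_centralizer s4
    (h.cop' (s1.trans m4)) k8)))
  have e : N = M := le_antisymm n0 (relIndex_eq_one.1 (Nat.eq_one_iff_not_exists_prime_dvd.2 fun q hq h1 =>
    s0 q hq (fun e => s3 ((e ▸ h1).trans (relIndex_dvd_of_le_left _ k9))) h1))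
  refine (hM.le.trans ((LAE.pResOf_pResOf _).ge.trans (LAE.pResOf_mono (hM.ge.trans ?_)))).trans y3
  exact le_iInf₂ fun γ hγ => by rw [e, conjBy_eq_self_iff.2 (sup_le le_normalizer m1 hγ)]

end

omit g in
theorem main : R ≤ 𝐂(Lp p G) := by
  have key : ∀ a ∈ R, a ≠ 1 → G ⊓ 𝐂(zpowers a) ≤ G ⊓ 𝐍(kUpIn P) ∧ Good p G R (G ⊓ 𝐍(kUpIn P)) := fun a ha ha1 => by
    obtain ⟨H, ⟨g, h1⟩, -, h2⟩ := exists_max_ge (𝒦 := {H | Good p G R H ∧ G ⊓ 𝐂(zpowers a) ≤ H})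
      ⟨h.good ha ha1, le_rfl⟩
    have h3 : H ≤ G ⊓ 𝐍(kUpIn (pCoreOf p H)) := le_inf g.le (norm_J rfl le_normalizer)
    have h4 := h2 _ ⟨⟨inf_le_left, LAE.le_normalizer_inf h.hR (Coprime.le_normalizer_normalizer (norm_J rfl g.nR)),
      g.ge.trans h3, cent_comm (h.M_le_cent g ha ha1 h1 rfl rfl)⟩, h1.trans h3⟩ h3
    rw [h.kUp g] at h4
    have h5 : P ⊓ H = P := by
      by_contra e
      exact (lt_inf_normalizer_of_lt h.st.pg (lt_of_le_of_ne inf_le_left e)).not_ge (le_inf inf_le_left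
        ((inf_le_inf h.st.le (norm_le_norm_kUpIn _)).trans h4.le))
    rw [h5] at h4
    exact h4.symm ▸ ⟨h1, g⟩
  obtain ⟨a, ha⟩ := (ne_bot_iff_exists_ne_one (H := R)).1 fun e => h.nc (e ▸ inferInstance)
  have := (key a a.2 fun e => ha (Subtype.ext e)).2.cen
  rwa [inf_eq_left.2 (h.gen_le le_rfl h.hR fun c hc e => (key c hc e).1.trans inf_le_right)] at this

end Ctx

theorem exists_sq [Finite X] [hr : Fact r.Prime] (hR : IsPGroup r R) (hab : IsMulCommutative R) (hc : ¬ IsCyclic R) :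
    ∃ A ≤ R, ¬ IsCyclic A ∧ (∀ a ∈ A, a ^ r = 1) ∧ ∀ a ∈ A, a ≠ 1 → ∀ c ∈ A, c ∉ zpowers a →
      A ≤ zpowers a ⊔ zpowers c := by
  have h0 : ∀ {a c}, a ∈ R → c ∈ R → zpowers c ≤ 𝐍(zpowers a) := fun ha hc => (zpowers_le.2 hc).trans
    (((le_centralizer_iff_isMulCommutative.2 hab).trans (cent_anti (zpowers_le.2 ha))).trans (cent_le_norm _))
  have key : ∀ a ∈ R, ∀ c ∈ R, orderOf a = r → orderOf c = r → c ∉ zpowers a →
      Nat.card ↥(zpowers a ⊔ zpowers c) = r * r := fun a ha c hc h1 h2 h3 => by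
    have := Coprime.card_sup_mul_card_inf (h0 ha hc)
    rwa [inf_comm, Core.zpowers_inf_eq_bot_of_prime_orderOf (h2 ▸ hr.out) h3, card_bot, mul_one, Nat.card_zpowers,
      Nat.card_zpowers, h1, h2] at this
  obtain ⟨q, hq, x, y, hx, hy, h⟩ : ∃ q : ℕ, q.Prime ∧ ∃ x y : R, orderOf x = q ∧ orderOf y = q ∧ y ∉ zpowers x := by
    by_contra! h
    exact hc (Frob.isCyclic_of_comm_of_forall_mem_zpowers hab h)
  obtain ⟨k, hk⟩ := IsPGroup.iff_orderOf.1 hR x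
  obtain rfl := (Nat.prime_dvd_prime_iff_eq hq hr.out).1 (hq.dvd_of_dvd_pow (hx.symm.trans hk).dvd)
  rw [← orderOf_coe] at hx hy
  have h1 := key x x.2 y y.2 hx hy fun ⟨n, hn⟩ => h ⟨n, Subtype.ext hn⟩
  have h2 : zpowers (x : X) ⊔ zpowers (y : X) ≤ R := sup_le (zpowers_le.2 x.2) (zpowers_le.2 y.2)
  have h3 : ∀ a ∈ zpowers (x : X) ⊔ zpowers (y : X), a ^ q = 1 := fun a ha => by
    obtain ⟨u, hu, v, hv, rfl⟩ := (Coprime.mem_sup_iff_of_le_normalizer (h0 x.2 y.2)).1 ha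
    rw [Commute.mul_pow (le_centralizer_iff_isMulCommutative.2 hab (zpowers_le.2 y.2 hv) _ (zpowers_le.2 x.2 hu)),
      orderOf_dvd_iff_pow_eq_one.1 (hx ▸ orderOf_dvd_of_mem_zpowers hu),
      orderOf_dvd_iff_pow_eq_one.1 (hy ▸ orderOf_dvd_of_mem_zpowers hv), mul_one]
  refine ⟨_, h2, fun e => ?_, h3, fun a ha a1 c hc c1 => (eq_of_le_of_card_ge (sup_le (zpowers_le.2 ha) (zpowers_le.2 hc))
    (h1.trans (key a (h2 ha) c (h2 hc) (orderOf_eq_prime (h3 a ha) a1) (orderOf_eq_prime (h3 c hc)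
    fun e => c1 (e ▸ one_mem _)) c1).symm).le).ge⟩
  have := Monoid.exponent_dvd_of_forall_pow_eq_one (G := ↥(zpowers (x : X) ⊔ zpowers (y : X))) (n := q)
    fun g => Subtype.ext (h3 g g.2)
  rw [IsCyclic.exponent_eq_card, h1] at this
  exact (Nat.le_of_dvd hq.pos this).not_gt (lt_mul_self hq.one_lt)

theorem Lp_eq (h : (Nat.card H).Coprime p) : Lp p H = Comp.fstarOf H := le_antisymm (LAE.pResOf_le _) fun _ hg =>
  LAE.mem_pResOf hg (h.coprime_dvd_left (orderOf_dvd_natCard _ (map_subtype_le _ hg)))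

theorem cent_Lp [Finite X] [hr : Fact r.Prime] [hp : Fact p.Prime] (h5 : 5 ≤ p) (hne : r ≠ p) (hR : IsPGroup r R)
    (hc : (Nat.card G).Coprime r) (hn : R ≤ 𝐍(G)) (hab : IsMulCommutative R) (hnc : ¬ IsCyclic R)
    (h : ∀ a ∈ R, a ≠ 1 → R ≤ 𝐂(Lp p (G ⊓ 𝐂(zpowers a)))) : R ≤ 𝐂(Lp p G) := by
  obtain ⟨A, h1, h2, h3, h4⟩ := exists_sq hR hab hnc
  obtain ⟨k, hk⟩ := (hR.to_le h1).exists_card_eq
  have h6 := Ctx.main ⟨h5, hr.out, hne, h1.trans hn, hk ▸ hc.symm.pow_left k, hr.out.coprime_iff_not_dvd.1 hc.symm,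
    hk ▸ ((Nat.coprime_primes hr.out hp.out).2 hne).pow_left k, le_centralizer_iff_isMulCommutative.1
    (h1.trans ((le_centralizer_iff_isMulCommutative.2 hab).trans (cent_anti h1))), h2, h3, h4,
    fun a ha e => h1.trans (h a (h1 ha) e)⟩
  obtain ⟨a, ha⟩ := (ne_bot_iff_exists_ne_one (H := A)).1 fun e => h2 (e ▸ inferInstance)
  exact (h a (h1 a.2) fun e => ha (Subtype.ext e)).trans (cent_anti (Lp_le_Lp (le_inf Lp_le (cent_comm
    ((zpowers_le.2 a.2).trans h6))) (norm_Lp (inf_le_left.trans le_normalizer))))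

end CfsgLib.EqK
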